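import Cfsg.Agent.Lib.Blocks.AbFree.Ext
import Cfsg.Agent.Lib.Blocks.SectionBound
import Cfsg.Agent.Lib.Blocks.AbelianFreeColumns

/-!
# Counting with integral columns attached to a free action
-/

namespace CfsgLib.Blocks.AbFree

open Cfsg CfsgLib.CharTheory
open scoped ComplexConjugate

set_option linter.unusedVariables false
set_option linter.unusedSimpArgs false
set_option linter.style.haveILetI false
set_option linter.unusedSectionVars false

universe u v

variable {p : ℕ} {M : Ideal AlgInt} {A : Type u} [CommGroup A] [Fintype A]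

theorem conj_hom (θ : A →* ℂˣ) (v : A) : conj ((θ v : ℂˣ) : ℂ) = ((θ⁻¹ v : ℂˣ) : ℂ) := by
  have h : ((θ v : ℂˣ) : ℂ) ^ Nat.card A = 1 := by
    rw [← Units.val_pow_eq_pow_val, ← map_pow, pow_card_eq_one', map_one, Units.val_one]
  rw [MonoidHom.inv_apply, Units.val_inv_eq_inv_val]
  exact (Complex.inv_eq_conj (Complex.norm_eq_one_of_pow_eq_one h Nat.card_pos.ne')).symm

/-- The columns of a block with a free action of a group `E` of automorphisms of `A`. -/
structure Cols (hM : IsPModular p M) (E : Subgroup (MulAut A)) {I : Type v} (B : Finset I)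
    (f : I → A → ℂ) (w : I → ℤ) : Prop where
  isP : IsPGroup p A
  coprime : ¬ p ∣ Nat.card E
  free : ∀ β ∈ E, ∀ v : A, β v = v → v ≠ 1 → β = 1
  inA : ∀ χ, ∃ K : A → ℂ, InA hM K ∧ ∀ v ≠ 1, K v = f χ v
  inv : ∀ χ, ∀ β ∈ E, ∀ v ≠ 1, f χ (β v) = f χ v
  int : ∀ χ, ∀ v ≠ 1, IsIntegral ℤ (f χ v)
  gram : ∀ v w : A, v ≠ 1 → w ≠ 1 → ∀ [Decidable (∃ β ∈ E, β v = w)],
    ∑ χ ∈ B, f χ v * conj (f χ w) = if ∃ β ∈ E, β v = w then (Nat.card A : ℂ) else 0
  deg : ∀ v ≠ 1, ∑ χ ∈ B, f χ v * (w χ : ℂ) = 0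
  wpos : ∀ χ ∈ B, 0 < w χ
  ne_zero : ∀ χ ∈ B, ∀ v ≠ 1, f χ v ≠ 0

/-- The orbit sum of a linear character, normalised at one. -/
noncomputable def orbSum (E : Subgroup (MulAut A)) [Fintype E] (μ : A →* ℂˣ) (v : A) : ℂ :=
  (∑ β : E, ((μ ((β : MulAut A) v) : ℂˣ) : ℂ)) - (Nat.card E : ℂ)

variable {hM : IsPModular p M} {E : Subgroup (MulAut A)} [Fintype E] {I : Type v} {B : Finset I}
  {f : I → A → ℂ} {w : I → ℤ}

theorem orbSum_one (μ : A →* ℂˣ) : orbSum E μ 1 = 0 := by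
  simp [orbSum, Nat.card_eq_fintype_card]

theorem orbSum_inv (μ : A →* ℂˣ) {β : MulAut A} (hβ : β ∈ E) (v : A) :
    orbSum E μ (β v) = orbSum E μ v := by
  unfold orbSum
  congr 1
  exact Fintype.sum_equiv (Equiv.mulRight (⟨β, hβ⟩ : E)) _ _ fun γ => rfl

theorem orbSum_inA (μ : A →* ℂˣ) : InA hM (orbSum E μ) :=
  ((InA.finset_sum (s := Finset.univ) (f := fun (β : E) v => ((μ.comp (β : MulAut A).toMonoidHom v : ℂˣ) : ℂ))
    fun β _ => InA.lin _).sub (InA.int (Nat.card E : ℤ))).congr fun v => by simp [orbSum]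

theorem orbSum_integral (μ : A →* ℂˣ) (v : A) : IsIntegral ℤ (orbSum E μ v) := by
  refine (IsIntegral.sum _ fun β _ => ?_).sub (isIntegral_natCast' _)
  refine IsIntegral.of_pow (Nat.card_pos (α := A)) (x := ((μ ((β : MulAut A) v) : ℂˣ) : ℂ)) ?_
  rw [← Units.val_pow_eq_pow_val, ← map_pow, pow_card_eq_one', map_one, Units.val_one]
  exact isIntegral_one

/-- A sum of an invariant integral function is divisible by the order of the group. -/
theorem sum_div_integral {F : A → ℂ}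
    (hfree : ∀ β ∈ E, ∀ v : A, β v = v → v ≠ 1 → β = 1)
    (hinv : ∀ β ∈ E, ∀ v ≠ 1, F (β v) = F v) (hint : ∀ v ≠ 1, IsIntegral ℤ (F v))
    [DecidableEq A] :
    IsIntegral ℤ ((∑ v ∈ Finset.univ.erase (1 : A), F v) / (Nat.card E : ℂ)) := by
  classical
  suffices h : ∀ S : Finset A, (∀ v ∈ S, v ≠ 1) → (∀ β ∈ E, ∀ v ∈ S, β v ∈ S) →
      IsIntegral ℤ ((∑ v ∈ S, F v) / (Nat.card E : ℂ)) from
    h _ (fun v hv => Finset.ne_of_mem_erase hv) fun β hβ v hv => Finset.mem_erase.2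
      ⟨fun e => Finset.ne_of_mem_erase hv (β.injective (e.trans (map_one β).symm)),
        Finset.mem_univ _⟩
  intro S
  induction S using Finset.strongInduction with
  | H S ih =>
    intro h1 hst
    rcases S.eq_empty_or_nonempty with rfl | ⟨x, hx⟩
    · simp [isIntegral_zero]
    set O : Finset A := Finset.univ.image fun β : E => (β : MulAut A) x with hO
    have hinj : ∀ β γ : E, (β : MulAut A) x = (γ : MulAut A) x → β = γ := fun β γ e => by
      have := hfree _ (E.mul_mem (E.inv_mem γ.2) β.2) x (by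
        show (γ : MulAut A)⁻¹ ((β : MulAut A) x) = x
        rw [e]; exact (γ : MulAut A).symm_apply_apply x) (h1 x hx)
      exact Subtype.ext (inv_mul_eq_one.1 this).symm
    have hOS : O ⊆ S := fun y hy => by
      obtain ⟨β, -, rfl⟩ := Finset.mem_image.1 hy
      exact hst _ β.2 x hx
    have hsum : ∑ v ∈ O, F v = (Nat.card E : ℂ) * F x := by
      rw [hO, Finset.sum_image fun β _ γ _ e => hinj β γ e,
        Finset.sum_congr rfl fun β _ => hinv _ β.2 x (h1 x hx), Finset.sum_const,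
        Finset.card_univ, Nat.card_eq_fintype_card, nsmul_eq_mul]
    have hlt : S \ O ⊂ S := Finset.sdiff_ssubset hOS
      ⟨x, Finset.mem_image.2 ⟨1, Finset.mem_univ _, rfl⟩⟩
    have hrec := ih _ hlt (fun v hv => h1 v (Finset.mem_sdiff.1 hv).1) fun β hβ v hv => by
      obtain ⟨hv1, hv2⟩ := Finset.mem_sdiff.1 hv
      refine Finset.mem_sdiff.2 ⟨hst β hβ v hv1, fun hm => hv2 ?_⟩
      obtain ⟨γ, -, e⟩ := Finset.mem_image.1 hm
      refine Finset.mem_image.2 ⟨(⟨β, hβ⟩ : E)⁻¹ * γ, Finset.mem_univ _, ?_⟩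
      show β⁻¹ ((γ : MulAut A) x) = v
      rw [e]; exact β.symm_apply_apply v
    rw [← Finset.sum_sdiff hOS, add_div, hsum,
      mul_div_cancel_left₀ _ (Nat.cast_ne_zero.2 Nat.card_pos.ne')]
    exact hrec.add (hint x (h1 x hx))

/-- The integral coordinates. -/
theorem Cols.exists_coord (h : Cols hM E B f w) (χ : I) (μ : A →* ℂˣ) :
    ∃ x : ℤ, ((x : ℂ) * ((Nat.card E : ℂ) * (Nat.card A : ℂ))) =
      ∑ v : A, orbSum E μ v * f χ v := by
  classical
  obtain ⟨K, hK, hKf⟩ := h.inA χ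
  haveI : Fact p.Prime := ⟨hM.1⟩
  have e1 : ∑ v : A, orbSum E μ v * f χ v = ∑ v : A, orbSum E μ v * K v :=
    Finset.sum_congr rfl fun v _ => by
      rcases eq_or_ne v 1 with rfl | hv
      · rw [orbSum_one]; ring
      · rw [hKf v hv]
  obtain ⟨q, hq, hqe⟩ := ((orbSum_inA (hM := hM) (E := E) μ).mul hK).coeff 1
  simp only [MonoidHom.inv_apply, MonoidHom.one_apply, inv_one, Units.val_one, mul_one] at hqe
  have hE0 : (Nat.card E : ℂ) ≠ 0 := Nat.cast_ne_zero.2 Nat.card_pos.ne'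
  obtain ⟨z, hz⟩ := exists_int_of_isIntegral_ratCast
    (q := q * (Nat.card A : ℚ) / (Nat.card E : ℚ)) (by
      push_cast
      rw [hqe, ← e1, ← Finset.add_sum_erase _ _ (Finset.mem_univ (1 : A)), orbSum_one, zero_mul,
        zero_add]
      exact sum_div_integral h.free
        (fun β hβ v hv => by rw [orbSum_inv μ hβ, h.inv χ β hβ v hv])
        fun v hv => (orbSum_integral μ v).mul (h.int χ v hv))
  obtain ⟨a, ha⟩ := IsPGroup.iff_card.1 h.isP
  have hmem : ((z : ℚ) / (p : ℚ) ^ a) ∈ Rp hM := by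
    rw [← hz, ha, Nat.cast_pow, div_div, mul_comm (Nat.card E : ℚ), ← div_div,
      mul_div_cancel_right₀ _ (pow_ne_zero _ (Nat.cast_ne_zero.2 hM.1.ne_zero)), div_eq_mul_inv]
    refine (Rp hM).mul_mem hq ?_
    rw [mem_Rp]
    push_cast
    refine memRing_inv hM (memRing_natCast hM _) fun h0 => h.coprime ?_
    haveI := res_charP hM
    rw [← CharP.cast_eq_zero_iff (AlgInt ⧸ M) p, ← res_natCast hM]
    exact (res_eq_zero_iff hM (memRing_natCast hM _)).2 h0
  obtain ⟨x, rfl⟩ := pow_dvd_of_mem hM hmem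
  refine ⟨x, ?_⟩
  have hz' := congrArg (fun t : ℚ => (t : ℂ)) hz
  push_cast at hz'
  rw [e1, ← hqe]
  rw [div_eq_iff hE0] at hz'
  rw [hz', ha]
  push_cast
  ring

/-- Linear characters conjugate under `E`. -/
def orbRel (E : Subgroup (MulAut A)) : Setoid {μ : A →* ℂˣ // μ ≠ 1} where
  r μ ν := ∃ β ∈ E, μ.1.comp β.toMonoidHom = ν.1
  iseqv := by
    refine ⟨fun μ => ⟨1, E.one_mem, MonoidHom.ext fun v => rfl⟩, ?_, ?_⟩
    · rintro μ ν ⟨β, hβ, e⟩
      refine ⟨β⁻¹, E.inv_mem hβ, MonoidHom.ext fun v => ?_⟩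
      rw [← e]
      exact congrArg μ.1 (β.apply_symm_apply v)
    · rintro μ ν ρ ⟨β, hβ, e⟩ ⟨γ, hγ, e'⟩
      refine ⟨β * γ, E.mul_mem hβ hγ, MonoidHom.ext fun v => ?_⟩
      rw [← e', ← e]; rfl

theorem free_hom (hfree : ∀ β ∈ E, ∀ v : A, β v = v → v ≠ 1 → β = 1) {μ : A →* ℂˣ} (hμ : μ ≠ 1)
    {β γ : E} (e : μ.comp (β : MulAut A).toMonoidHom = μ.comp (γ : MulAut A).toMonoidHom) :
    β = γ := by
  by_contra hne
  set δ : MulAut A := (β : MulAut A) * (γ : MulAut A)⁻¹ with hδ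
  have hδ1 : δ ≠ 1 := fun h1 => hne (Subtype.ext (mul_inv_eq_one.1 h1))
  have hinj : Function.Injective fun v : A => δ v * v⁻¹ := fun v v' hvv => by
    by_contra hv
    refine hδ1 (hfree δ (E.mul_mem β.2 (E.inv_mem γ.2)) (v * v'⁻¹) ?_ fun h1 =>
      hv (mul_inv_eq_one.1 h1))
    rw [map_mul, map_inv, mul_inv_eq_iff_eq_mul]
    calc δ v = δ v * v⁻¹ * v := (inv_mul_cancel_right _ _).symm
      _ = δ v' * v'⁻¹ * v := by rw [show δ v * v⁻¹ = δ v' * v'⁻¹ from hvv]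
      _ = v * v'⁻¹ * δ v' := by rw [mul_comm (δ v') v'⁻¹, mul_comm (v'⁻¹ * δ v') v, mul_assoc]
  refine hμ (MonoidHom.ext fun z => ?_)
  obtain ⟨v, rfl⟩ := (Finite.injective_iff_surjective.1 hinj) z
  have h1 : μ (δ v) = μ v := by
    have := DFunLike.congr_fun e ((γ : MulAut A)⁻¹ v)
    simp only [MonoidHom.comp_apply, MulEquiv.coe_toMonoidHom] at this
    rw [show (γ : MulAut A) ((γ : MulAut A)⁻¹ v) = v from (γ : MulAut A).apply_symm_apply v] at this
    exact this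
  simp [map_mul, h1]

theorem sum_pairs (hfree : ∀ β ∈ E, ∀ v : A, β v = v → v ≠ 1 → β = 1)
    (μ ν : {μ : A →* ℂˣ // μ ≠ 1}) [Decidable ((orbRel E).r μ ν)] :
    ∑ v : A, orbSum E μ.1 v * conj (orbSum E ν.1 v) =
      (Nat.card A : ℂ) * (Nat.card E : ℂ) *
        ((if (orbRel E).r μ ν then 1 else 0) + (Nat.card E : ℂ)) := by
  classical
  have hsum : ∀ (ρ : A →* ℂˣ), ρ ≠ 1 → ∑ v : A, ((ρ v : ℂˣ) : ℂ) = 0 := fun ρ hρ => by
    rw [sum_hom ρ, if_neg hρ]
  have hne : ∀ (ρ : {μ : A →* ℂˣ // μ ≠ 1}) (β : E),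
      ρ.1.comp (β : MulAut A).toMonoidHom ≠ 1 := fun ρ β e => ρ.2 (MonoidHom.ext fun v => by
    have := DFunLike.congr_fun e ((β : MulAut A)⁻¹ v)
    simp only [MonoidHom.comp_apply, MulEquiv.coe_toMonoidHom] at this
    rwa [show (β : MulAut A) ((β : MulAut A)⁻¹ v) = v from (β : MulAut A).apply_symm_apply v] at this)
  have hz1 : ∀ ρ : {μ : A →* ℂˣ // μ ≠ 1}, ∑ v : A, ∑ β : E, ((ρ.1 ((β : MulAut A) v) : ℂˣ) : ℂ) = 0 :=
    fun ρ => by
      rw [Finset.sum_comm]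
      exact Finset.sum_eq_zero fun β _ => hsum _ (hne ρ β)
  have hz2 : ∑ v : A, ∑ β : E, conj ((ν.1 ((β : MulAut A) v) : ℂˣ) : ℂ) = 0 := by
    rw [← map_zero (starRingEnd ℂ), ← hz1 ν, map_sum]
    exact Finset.sum_congr rfl fun v _ => (map_sum _ _ _).symm
  have hmain : ∑ v : A, (∑ β : E, ((μ.1 ((β : MulAut A) v) : ℂˣ) : ℂ)) *
      (∑ γ : E, conj ((ν.1 ((γ : MulAut A) v) : ℂˣ) : ℂ)) =
      (Nat.card A : ℂ) * (Nat.card E : ℂ) * (if (orbRel E).r μ ν then 1 else 0) := by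
    simp only [Finset.sum_mul_sum]
    rw [Finset.sum_comm]
    simp only [Finset.sum_comm (s := (Finset.univ : Finset A))]
    have e1 : ∀ β γ : E, ∑ v : A, ((μ.1 ((β : MulAut A) v) : ℂˣ) : ℂ) *
        conj ((ν.1 ((γ : MulAut A) v) : ℂˣ) : ℂ) =
        if μ.1.comp (β : MulAut A).toMonoidHom = ν.1.comp (γ : MulAut A).toMonoidHom
          then (Nat.card A : ℂ) else 0 := by
      intro β γ
      rw [Finset.sum_congr rfl fun v _ => show _ = ((((μ.1.comp (β : MulAut A).toMonoidHom) *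
          (ν.1.comp (γ : MulAut A).toMonoidHom)⁻¹) v : ℂˣ) : ℂ) by
        rw [conj_hom, MonoidHom.mul_apply, Units.val_mul]; rfl]
      rw [sum_hom]
      split_ifs with h1 h2 h2
      · rfl
      · exact absurd (mul_inv_eq_one.1 h1) h2
      · exact absurd (mul_inv_eq_one.2 h2) h1
      · rfl
    simp only [e1]
    split_ifs with hr
    · obtain ⟨δ, hδ, hδe⟩ := hr
      rw [mul_one, Finset.sum_congr rfl fun β _ => Finset.sum_eq_single
        ((⟨δ, hδ⟩ : E)⁻¹ * β) (fun γ _ hγ => if_neg fun e => hγ ?_)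
        (fun h' => absurd (Finset.mem_univ _) h')]
      · rw [Finset.sum_congr rfl fun β _ => if_pos (MonoidHom.ext fun v => ?_), Finset.sum_const,
          Finset.card_univ, Nat.card_eq_fintype_card (α := E), nsmul_eq_mul, mul_comm]
        rw [← hδe]
        exact congrArg μ.1 (δ.apply_symm_apply _).symm
      · rw [← hδe] at e
        have := free_hom hfree μ.2 (β := β) (γ := ⟨δ, hδ⟩ * γ)
          (e.trans (MonoidHom.ext fun v => rfl))
        rw [this, inv_mul_cancel_left]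
    · rw [mul_zero]
      refine Finset.sum_eq_zero fun β _ => Finset.sum_eq_zero fun γ _ => if_neg fun e => hr ?_
      refine ⟨(β : MulAut A) * (γ : MulAut A)⁻¹, E.mul_mem β.2 (E.inv_mem γ.2),
        MonoidHom.ext fun v => ?_⟩
      have := DFunLike.congr_fun e ((γ : MulAut A)⁻¹ v)
      simp only [MonoidHom.comp_apply, MulEquiv.coe_toMonoidHom] at this
      rw [show (γ : MulAut A) ((γ : MulAut A)⁻¹ v) = v from (γ : MulAut A).apply_symm_apply v] at this
      exact this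
  simp only [orbSum, map_sub, map_sum, Complex.conj_natCast, sub_mul, mul_sub,
    Finset.sum_sub_distrib, ← Finset.mul_sum, ← Finset.sum_mul]
  rw [hmain, hz1 μ, hz2, Finset.sum_const, Finset.card_univ, nsmul_eq_mul,
    Nat.card_eq_fintype_card (α := A)]
  ring

end CfsgLib.Blocks.AbFree
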