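import Cfsg.Agent.Lib.Blocks.PermTrace
import Cfsg.Agent.Lib.CharTheory.Galois
import Cfsg.Agent.Lib.CharTheory.Linear
import Mathlib.GroupTheory.FiniteAbelian.Duality

/-!
# Functions on an abelian `p`-group with `p`-integral rational Fourier coefficients
-/

namespace CfsgLib.Blocks.AbFree

open Cfsg CfsgLib.CharTheory
open scoped ComplexConjugate

set_option linter.unusedVariables false
set_option linter.unusedSimpArgs false
set_option linter.style.haveILetI false
set_option linter.unusedSectionVars false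

universe u v

variable {p : ℕ} {M : Ideal AlgInt}

/-- The rational numbers that are integral at `M`. -/
noncomputable abbrev Rp (hM : IsPModular p M) : Subring ℚ := (loc hM).comap (Rat.castHom ℂ)

theorem mem_Rp {hM : IsPModular p M} {q : ℚ} : q ∈ Rp hM ↔ MemLocalRing M (q : ℂ) := Iff.rfl

theorem res_p_mul (hM : IsPModular p M) {z : ℂ} (hz : MemLocalRing M z) :
    res hM ((p : ℂ) * z) = 0 := by
  rw [res_mul hM (memRing_natCast hM p) hz, natCast_p_mem hM, zero_mul]

/-- A power of `p` divides the integers it divides in `Rp`. -/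
theorem pow_dvd_of_mem (hM : IsPModular p M) {k : ℕ} {z : ℤ}
    (h : ((z : ℚ) / (p : ℚ) ^ k) ∈ Rp hM) : (p : ℤ) ^ k ∣ z := by
  induction k generalizing z with
  | zero => simp
  | succ k ih =>
    have hp0 : (p : ℂ) ≠ 0 := Nat.cast_ne_zero.2 hM.1.ne_zero
    rw [mem_Rp] at h
    push_cast at h
    have hk : MemLocalRing M ((p : ℂ) ^ k) := pow_mem (mem_loc.2 (memRing_natCast hM p) : (p : ℂ) ∈ loc hM) k
    have hpz : (z : ℂ) = (p : ℂ) * ((z : ℂ) / (p : ℂ) ^ (k + 1) * (p : ℂ) ^ k) := by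
      field_simp
      ring
    have hres : res hM ((z : ℤ) : ℂ) = 0 := by
      rw [hpz]
      exact res_p_mul hM ((loc hM).mul_mem h hk)
    haveI := res_charP hM
    have hdvd : (p : ℤ) ∣ z := by
      rw [← CharP.intCast_eq_zero_iff (AlgInt ⧸ M) p, ← map_intCast (resHom hM), resHom_apply]
      simpa using hres
    obtain ⟨w, rfl⟩ := hdvd
    refine pow_succ' (p : ℤ) k ▸ mul_dvd_mul_left _ (ih ?_)
    rw [mem_Rp]
    push_cast
    convert h using 1
    push_cast
    field_simp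
    ring

variable {A : Type u} [CommGroup A] [Finite A]

instance : Finite (A →* ℂˣ) :=
  Finite.of_equiv A (CommGroup.monoidHom_mulEquiv_of_hasEnoughRootsOfUnity A ℂ).some.symm.toEquiv

/-- Evaluation at an element. -/
noncomputable def ev (hM : IsPModular p M) (v : A) : MonoidAlgebra (Rp hM) (A →* ℂˣ) →+* ℂ :=
  MonoidAlgebra.liftNCRingHom ((Rat.castHom ℂ).comp (Rp hM).subtype)
    ((Units.coeHom ℂ).comp (MonoidHom.eval v)) fun _ _ => Commute.all _ _

theorem ev_single (hM : IsPModular p M) (v : A) (θ : A →* ℂˣ) (r : Rp hM) :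
    ev hM v (MonoidAlgebra.single θ r) = ((r : ℚ) : ℂ) * (θ v : ℂ) :=
  MonoidAlgebra.liftNCRingHom_single _ _ _ _ _

theorem ev_eq_sum [Fintype (A →* ℂˣ)] (hM : IsPModular p M) (v : A)
    (x : MonoidAlgebra (Rp hM) (A →* ℂˣ)) :
    ev hM v x = ∑ θ, ((x.coeff θ : ℚ) : ℂ) * (θ v : ℂ) := by
  classical
  induction x using MonoidAlgebra.induction_linear with
  | zero => simp
  | add a b ha hb =>
    simp only [map_add, ha, hb, MonoidAlgebra.coeff_add, Finsupp.add_apply, Subring.coe_add,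
      Rat.cast_add, add_mul, Finset.sum_add_distrib]
  | single θ r =>
    rw [ev_single, Finset.sum_eq_single θ (fun μ _ hμ => by
      simp [MonoidAlgebra.coeff_single, Finsupp.single_eq_of_ne hμ])
      (fun h => absurd (Finset.mem_univ θ) h)]
    simp [MonoidAlgebra.coeff_single]

theorem sum_hom [Fintype A] (θ : A →* ℂˣ) [Decidable (θ = 1)] :
    ∑ v : A, (θ v : ℂ) = if θ = 1 then (Nat.card A : ℂ) else 0 := by
  split_ifs with h
  · simp [h]
  · exact sum_hom_units_eq_zero ((Units.coeHom ℂ).comp θ) fun e => h (MonoidHom.ext fun v =>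
      Units.ext (DFunLike.congr_fun e v))

/-- The functions with coefficients in `Rp`. -/
def InA (hM : IsPModular p M) (F : A → ℂ) : Prop :=
  ∃ x : MonoidAlgebra (Rp hM) (A →* ℂˣ), ∀ v, ev hM v x = F v

namespace InA

variable {hM : IsPModular p M} {F F' : A → ℂ}

theorem congr (h : InA hM F) (e : ∀ v, F v = F' v) : InA hM F' :=
  h.imp fun x hx v => (hx v).trans (e v)

theorem add (h : InA hM F) (h' : InA hM F') : InA hM fun v => F v + F' v := by
  obtain ⟨x, hx⟩ := h; obtain ⟨y, hy⟩ := h'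
  exact ⟨x + y, fun v => by rw [map_add, hx, hy]⟩

theorem sub (h : InA hM F) (h' : InA hM F') : InA hM fun v => F v - F' v := by
  obtain ⟨x, hx⟩ := h; obtain ⟨y, hy⟩ := h'
  exact ⟨x - y, fun v => by rw [map_sub, hx, hy]⟩

theorem mul (h : InA hM F) (h' : InA hM F') : InA hM fun v => F v * F' v := by
  obtain ⟨x, hx⟩ := h; obtain ⟨y, hy⟩ := h'
  exact ⟨x * y, fun v => by rw [map_mul, hx, hy]⟩

theorem lin (θ : A →* ℂˣ) : InA hM fun v : A => (θ v : ℂ) :=
  ⟨MonoidAlgebra.single θ 1, fun v => by rw [ev_single]; simp⟩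

theorem const {q : ℚ} (hq : q ∈ Rp hM) : InA hM fun _ : A => (q : ℂ) :=
  ⟨MonoidAlgebra.single 1 ⟨q, hq⟩, fun v => by rw [ev_single]; simp⟩

theorem int (z : ℤ) : InA hM fun _ : A => (z : ℂ) :=
  (const (intCast_mem (Rp hM) z)).congr fun v => Rat.cast_intCast z

theorem one : InA hM fun _ : A => (1 : ℂ) := (int 1).congr fun v => Int.cast_one

theorem smul {q : ℚ} (hq : q ∈ Rp hM) (h : InA hM F) : InA hM fun v => (q : ℂ) * F v :=
  (const hq).mul h

theorem finset_sum {ι : Type*} {s : Finset ι} {f : ι → A → ℂ}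
    (h : ∀ i ∈ s, InA hM (f i)) : InA hM fun v => ∑ i ∈ s, f i v := by
  classical
  induction s using Finset.induction_on with
  | empty => exact ⟨0, fun v => by simp⟩
  | @insert a s ha ih =>
    refine ((h a (Finset.mem_insert_self a s)).add
      (ih fun i hi => h i (Finset.mem_insert_of_mem hi))).congr fun v => ?_
    rw [Finset.sum_insert ha]

theorem finset_prod {ι : Type*} {s : Finset ι} {f : ι → A → ℂ}
    (h : ∀ i ∈ s, InA hM (f i)) : InA hM fun v => ∏ i ∈ s, f i v := by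
  classical
  induction s using Finset.induction_on with
  | empty => exact one.congr fun v => by simp
  | @insert a s ha ih =>
    refine ((h a (Finset.mem_insert_self a s)).mul
      (ih fun i hi => h i (Finset.mem_insert_of_mem hi))).congr fun v => ?_
    rw [Finset.prod_insert ha]

theorem comp {B : Type v} [CommGroup B] [Finite B] (f : B →* A) (h : InA hM F) :
    InA hM fun b => F (f b) := by
  obtain ⟨x, hx⟩ := h
  refine ⟨MonoidAlgebra.mapDomainRingHom (Rp hM)
    (MonoidHom.compHom' f : (A →* ℂˣ) →* (B →* ℂˣ)) x, fun b' => ?_⟩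
  show _ = F (f b')
  rw [← hx (f b')]
  clear hx
  induction x using MonoidAlgebra.induction_linear with
  | zero => simp
  | add a b ha hb => simp only [map_add, ha, hb]
  | single θ r =>
    rw [MonoidAlgebra.mapDomainRingHom_apply, MonoidAlgebra.mapDomain_single, ev_single, ev_single]
    rfl

/-- The Fourier coefficients. -/
theorem coeff [Fintype A] (h : InA hM F) (θ : A →* ℂˣ) :
    ∃ q ∈ Rp hM, (q : ℂ) * (Nat.card A : ℂ) = ∑ v : A, F v * (θ⁻¹ v : ℂˣ) := by
  classical
  haveI := Fintype.ofFinite (A →* ℂˣ)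
  obtain ⟨x, hx⟩ := h
  refine ⟨x.coeff θ, (x.coeff θ).2, ?_⟩
  simp only [← hx, ev_eq_sum, Finset.sum_mul]
  rw [Finset.sum_comm, Finset.sum_eq_single θ]
  · simp [Nat.card_eq_fintype_card, mul_comm, mul_assoc]
  · intro μ _ hμ
    have h1 := sum_hom (μ * θ⁻¹)
    rw [if_neg fun e => hμ (mul_inv_eq_one.1 e)] at h1
    rw [Finset.sum_congr rfl fun v _ => show ((x.coeff μ : ℚ) : ℂ) * (μ v : ℂ) * (θ⁻¹ v : ℂˣ) =
      ((x.coeff μ : ℚ) : ℂ) * (((μ * θ⁻¹) v : ℂˣ) : ℂ) by
        rw [MonoidHom.mul_apply, Units.val_mul]; ring, ← Finset.mul_sum, h1, mul_zero]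
  · exact fun h => absurd (Finset.mem_univ θ) h

theorem mem_loc_of (hA : IsPGroup p A) (h : InA hM F) (v : A) :
    MemLocalRing M (F v) ∧ res hM (F v) = res hM (F 1) := by
  obtain ⟨x, hx⟩ := h
  rw [← hx v, ← hx 1]
  clear hx
  have h1 : MemLocalRing M (ev hM v x) ∧ MemLocalRing M (ev hM (1 : A) x) ∧
      res hM (ev hM v x) = res hM (ev hM (1 : A) x) := by
    induction x using MonoidAlgebra.induction_linear with
    | zero => simp [zero_mem (loc hM), mem_loc.1 (zero_mem (loc hM))]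
    | add a b ha hb =>
      simp only [map_add]
      exact ⟨(loc hM).add_mem ha.1 hb.1, (loc hM).add_mem ha.2.1 hb.2.1,
        by rw [res_add hM ha.1 hb.1, res_add hM ha.2.1 hb.2.1, ha.2.2, hb.2.2]⟩
    | single θ r =>
      obtain ⟨k, hk⟩ := hA v
      obtain ⟨hm, hr⟩ := res_eq_one_of_pow (l := (θ v : ℂ)) (k := k) hM (by
        rw [← Units.val_pow_eq_pow_val, ← map_pow, hk, map_one, Units.val_one])
      have hr' : MemLocalRing M (((r : ℚ) : ℂ)) := r.2
      rw [ev_single, ev_single, map_one, Units.val_one, mul_one]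
      exact ⟨(loc hM).mul_mem hr' hm, hr', by rw [res_mul hM hr' hm, hr, mul_one]⟩
  exact ⟨h1.1, h1.2.2⟩

theorem comp_inv (h : InA hM F) : InA hM fun v => F v⁻¹ := h.comp invMonoidHom

theorem apply_inv [Fintype A] (h : InA hM F) (v : A) : F v⁻¹ = conj (F v) := by
  classical
  haveI := Fintype.ofFinite (A →* ℂˣ)
  obtain ⟨x, hx⟩ := h
  rw [← hx, ← hx, ev_eq_sum, ev_eq_sum, map_sum]
  refine Finset.sum_congr rfl fun θ _ => ?_
  rw [map_mul, map_inv, Units.val_inv_eq_inv_val, Complex.inv_eq_conj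
    (Complex.norm_eq_one_of_pow_eq_one (n := Nat.card A) (by
      rw [← Units.val_pow_eq_pow_val, ← map_pow, pow_card_eq_one', map_one, Units.val_one])
      Nat.card_pos.ne')]
  simp [Complex.conj_ofReal, map_ratCast]

theorem galois_int [Fintype A] (h : InA hM F) (hint : ∀ v, ∃ z : ℤ, F v = z) (v : A) {j : ℕ}
    (hj : j.Coprime (Nat.card A)) : F (v ^ j) = F v := by
  classical
  haveI := Fintype.ofFinite (A →* ℂˣ)
  have hN : Nat.card A ≠ 0 := Nat.card_pos.ne'
  obtain ⟨σ, hσ⟩ := exists_galois_hom hN hj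
  obtain ⟨x, hx⟩ := h
  obtain ⟨z, hz⟩ := hint v
  have hroot : ∀ θ : A →* ℂˣ, (θ v : ℂ) ^ Nat.card A = 1 := fun θ => by
    rw [← Units.val_pow_eq_pow_val, ← map_pow, pow_card_eq_one', map_one, Units.val_one]
  have e : (∑ θ : A →* ℂˣ, algebraMap ℚ (rootField (Nat.card A)) (x.coeff θ : ℚ) *
      ⟨(θ v : ℂ), mem_rootField hN (hroot θ)⟩ : rootField (Nat.card A)) = (z : rootField _) := by
    refine Subtype.ext ?_
    push_cast
    rw [← hz, ← hx v, ev_eq_sum]
    exact Finset.sum_congr rfl fun θ _ => by simp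
  have h2 := congrArg σ e
  rw [map_sum, map_intCast, ← hz] at h2
  rw [← h2, ← hx (v ^ j), ev_eq_sum]
  refine Finset.sum_congr rfl fun θ _ => ?_
  rw [map_mul, AlgHom.commutes, hσ _ (hroot θ), map_pow, Units.val_pow_eq_pow_val]
  simp

/-- An element with unit values has an inverse. -/
theorem inv [Fact p.Prime] [Fintype A] (hA : IsPGroup p A) (h : InA hM F)
    (h1 : res hM (F 1) ≠ 0) : InA hM fun v => (F v)⁻¹ := by
  classical
  obtain ⟨x, hx⟩ := h
  haveI : Algebra.IsIntegral (Rp hM) (MonoidAlgebra (Rp hM) (A →* ℂˣ)) :=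
    Algebra.IsIntegral.of_finite _ _
  suffices hu : IsUnit x by
    obtain ⟨y, hy⟩ := hu.exists_right_inv
    refine ⟨y, fun v => eq_inv_of_mul_eq_one_right ?_⟩
    rw [← hx v, ← map_mul, hy, map_one]
  by_contra hnu
  letI : CommRing (MonoidAlgebra (Rp hM) (A →* ℂˣ)) := MonoidAlgebra.commRing
  obtain ⟨I, hI, hle⟩ := Ideal.exists_le_maximal
    (Ideal.span ({x} : Set (MonoidAlgebra (Rp hM) (A →* ℂˣ))))
    (fun e => hnu (by exact (Ideal.span_singleton_eq_top (x := x)).1 e))
  have hxI : x ∈ I := hle (Ideal.mem_span_singleton_self x)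
  haveI := Ideal.isMaximal_comap_of_isIntegral_of_isMaximal (R := Rp hM) I
  set J := I.comap (algebraMap (Rp hM) (MonoidAlgebra (Rp hM) (A →* ℂˣ))) with hJ
  have hres : ∀ r : Rp hM, r ∈ J ↔ res hM ((r : ℚ) : ℂ) = 0 := by
    have hle : ∀ r : Rp hM, r ∈ J → res hM ((r : ℚ) : ℂ) = 0 := by
      intro r hr
      by_contra hne
      have hnot : ¬ MemLocalIdeal M ((r : ℚ) : ℂ) := fun hh => hne ((res_eq_zero_iff hM r.2).2 hh)
      have hr0 : (r : ℚ) ≠ 0 := fun e => hne (by rw [e, Rat.cast_zero, res_zero])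
      have hinv : ((r : ℚ))⁻¹ ∈ Rp hM := by
        rw [mem_Rp, Rat.cast_inv]; exact memRing_inv hM r.2 hnot
      refine Ideal.IsMaximal.ne_top (I := J) inferInstance
        (Ideal.eq_top_of_isUnit_mem J hr (isUnit_iff_exists_inv.2 ⟨⟨_, hinv⟩, Subtype.ext ?_⟩))
      exact mul_inv_cancel₀ hr0
    haveI := res_isDomain hM
    let K : Ideal (Rp hM) := RingHom.ker ((resHom hM).comp
      (((Rat.castHom ℂ).comp (Rp hM).subtype).codRestrict (loc hM) fun r => r.2))
    have hK : J = K := Ideal.IsMaximal.eq_of_le inferInstance (RingHom.ker_ne_top _)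
      fun r hr => (hle r hr : _)
    intro r
    rw [hK]; rfl
  set q := Ideal.Quotient.mk I with hq
  have hp : q (p : MonoidAlgebra (Rp hM) (A →* ℂˣ)) = 0 := by
    rw [← map_natCast (algebraMap (Rp hM) _), Ideal.Quotient.eq_zero_iff_mem, ← Ideal.mem_comap,
      ← hJ, hres]
    simpa using natCast_p_mem hM
  haveI : CharP (MonoidAlgebra (Rp hM) (A →* ℂˣ) ⧸ I) p :=
    (CharP.charP_iff_prime_eq_zero Fact.out).2 (by rw [← map_natCast q]; exact hp)
  haveI := hI.isPrime
  have hθ : ∀ θ : A →* ℂˣ, q (MonoidAlgebra.single θ 1) = 1 := by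
    intro θ
    obtain ⟨k, hk⟩ := IsPGroup.iff_card.1 hA
    have hpow : θ ^ p ^ k = 1 := MonoidHom.ext fun v => by
      rw [MonoidHom.pow_apply, ← map_pow, ← hk, pow_card_eq_one', map_one, MonoidHom.one_apply]
    have : (q (MonoidAlgebra.single θ 1) - 1) ^ p ^ k = 0 := by
      rw [sub_pow_char_pow, ← map_pow, MonoidAlgebra.single_pow, one_pow, hpow, one_pow,
        ← MonoidAlgebra.one_def, map_one, sub_self]
    exact sub_eq_zero.1 (pow_eq_zero_iff (pow_ne_zero _ (Fact.out : p.Prime).ne_zero) |>.1 this)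
  obtain ⟨r, hr, hr'⟩ : ∃ r : Rp hM, q x = q (algebraMap (Rp hM) _ r) ∧
      ((r : ℚ) : ℂ) = ev hM (1 : A) x := by
    clear hx hxI hnu hle
    induction x using MonoidAlgebra.induction_linear with
    | zero => exact ⟨0, by simp, by simp⟩
    | add a b ha hb =>
      obtain ⟨r, hr, hr'⟩ := ha
      obtain ⟨s, hs, hs'⟩ := hb
      exact ⟨r + s, by rw [map_add, map_add, map_add, hr, hs],
        by rw [map_add, ← hr', ← hs']; push_cast; rfl⟩
    | single θ r =>
      refine ⟨r, ?_, by rw [ev_single]; simp⟩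
      rw [show MonoidAlgebra.single θ r =
        algebraMap (Rp hM) _ r * MonoidAlgebra.single θ 1 by simp, map_mul, hθ, mul_one]
  rw [hq, Ideal.Quotient.eq_zero_iff_mem.2 hxI, eq_comm, Ideal.Quotient.eq_zero_iff_mem,
    ← Ideal.mem_comap, ← hJ, hres, hr', hx] at hr
  exact h1 hr

/-- Higman's theorem: values on the unit circle force a linear character. -/
theorem higman [Fintype A] (hA : IsPGroup p A) (h : InA hM F)
    (habs : ∀ v, F v * conj (F v) = 1) (hint : ∀ v, IsIntegral ℤ (F v)) (h1 : F 1 = 1) :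
    ∃ θ : A →* ℂˣ, ∀ v, F v = (θ v : ℂ) := by
  classical
  haveI := Fintype.ofFinite (A →* ℂˣ)
  haveI : Fact p.Prime := ⟨hM.1⟩
  have hc : ∀ θ : A →* ℂˣ, ∃ z : ℤ, (z : ℂ) * (Nat.card A : ℂ) = ∑ v : A, F v * (θ⁻¹ v : ℂˣ) := by
    intro θ
    obtain ⟨q, hq, hqe⟩ := h.coeff θ
    have hroot : ∀ v : A, IsIntegral ℤ ((θ⁻¹ v : ℂˣ) : ℂ) := fun v =>
      IsIntegral.of_pow (n := Nat.card A) Nat.card_pos (by
        rw [← Units.val_pow_eq_pow_val, ← map_pow, pow_card_eq_one', map_one, Units.val_one]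
        exact isIntegral_one)
    have hi : IsIntegral ℤ (((q * Nat.card A : ℚ)) : ℂ) := by
      push_cast
      rw [hqe]
      exact IsIntegral.sum _ fun v _ => (hint v).mul (hroot v)
    obtain ⟨w, hw⟩ := exists_int_of_isIntegral_ratCast hi
    obtain ⟨k, hk⟩ := IsPGroup.iff_card.1 hA
    have hn0 : ((Nat.card A : ℕ) : ℚ) ≠ 0 := Nat.cast_ne_zero.2 Nat.card_pos.ne'
    have hqw : q = (w : ℚ) / (p : ℚ) ^ k := by
      rw [← Nat.cast_pow, ← hk, eq_div_iff hn0]; exact hw
    obtain ⟨z, hz⟩ := pow_dvd_of_mem hM (hqw ▸ hq)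
    refine ⟨z, ?_⟩
    rw [← hqe]
    congr 1
    have : q = z := by
      rw [hqw, hz]; push_cast
      rw [mul_div_assoc, mul_comm, div_mul_cancel₀]
      exact pow_ne_zero _ (Nat.cast_ne_zero.2 hM.1.ne_zero)
    rw [this, Rat.cast_intCast]
  choose z hz using hc
  have hexp : ∀ v, F v = ∑ θ, (z θ : ℂ) * (θ v : ℂ) := by
    intro v
    obtain ⟨x, hx⟩ := h
    rw [← hx v, ev_eq_sum]
    refine Finset.sum_congr rfl fun θ _ => ?_
    congr 1
    refine mul_right_cancel₀ (Nat.cast_ne_zero.2 (Nat.card_pos (α := A)).ne') ?_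
    rw [hz]
    simp only [← hx, ev_eq_sum, Finset.sum_mul]
    rw [Finset.sum_comm, Finset.sum_eq_single θ]
    · simp [Nat.card_eq_fintype_card, mul_comm, mul_assoc]
    · intro μ _ hμ
      rw [Finset.sum_congr rfl fun v _ => show ((x.coeff μ : ℚ) : ℂ) * (μ v : ℂ) * (θ⁻¹ v : ℂˣ) =
        ((x.coeff μ : ℚ) : ℂ) * (((μ * θ⁻¹) v : ℂˣ) : ℂ) by
          rw [MonoidHom.mul_apply, Units.val_mul]; ring, ← Finset.mul_sum, sum_hom,
        if_neg fun e => hμ (mul_inv_eq_one.1 e), mul_zero]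
    · exact fun h => absurd (Finset.mem_univ θ) h
  have hsq : ∑ θ, z θ ^ 2 = 1 := by
    have e : (Nat.card A : ℂ) * ((∑ θ, z θ ^ 2 : ℤ) : ℂ) = (Nat.card A : ℂ) * 1 := by
      push_cast
      rw [Finset.mul_sum, mul_one, Nat.card_eq_fintype_card, ← Finset.card_univ,
        Finset.card_eq_sum_ones]
      push_cast
      rw [Finset.sum_congr rfl fun θ _ => show _ = (z θ : ℂ) * ((z θ : ℂ) * (Nat.card A : ℂ)) by
        rw [Nat.card_eq_fintype_card]; simp; ring]
      simp only [hz, Finset.mul_sum]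
      rw [Finset.sum_comm]
      refine Finset.sum_congr rfl fun v _ => ?_
      rw [← habs v]
      conv_rhs => arg 2; rw [hexp v, map_sum]
      rw [Finset.mul_sum]
      refine Finset.sum_congr rfl fun θ _ => ?_
      rw [map_mul, map_intCast, MonoidHom.inv_apply, Units.val_inv_eq_inv_val,
        Complex.inv_eq_conj (Complex.norm_eq_one_of_pow_eq_one (n := Nat.card A) (by
          rw [← Units.val_pow_eq_pow_val, ← map_pow, pow_card_eq_one', map_one, Units.val_one])
          Nat.card_pos.ne')]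
      ring
    exact_mod_cast mul_left_cancel₀ (Nat.cast_ne_zero.2 (Nat.card_pos (α := A)).ne') e
  obtain ⟨θ₀, hθ₀⟩ : ∃ θ, z θ ≠ 0 := by
    by_contra hall
    push Not at hall
    simp [hall] at hsq
  have hrest : ∀ θ, θ ≠ θ₀ → z θ = 0 := by
    intro θ hθ
    rw [← Finset.add_sum_erase _ _ (Finset.mem_univ θ₀),
      ← Finset.add_sum_erase _ _ (Finset.mem_erase.2 ⟨hθ, Finset.mem_univ θ⟩)] at hsq
    have : 0 ≤ ∑ μ ∈ (Finset.univ.erase θ₀).erase θ, z μ ^ 2 :=
      Finset.sum_nonneg fun μ _ => sq_nonneg _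
    have h0 : 1 ≤ z θ₀ ^ 2 := by rcases lt_or_gt_of_ne hθ₀ with e | e <;> nlinarith
    nlinarith [sq_nonneg (z θ)]
  have hval : ∀ v, F v = (z θ₀ : ℂ) * (θ₀ v : ℂ) := fun v => by
    rw [hexp v]
    exact Finset.sum_eq_single θ₀ (fun θ _ hθ => by rw [hrest θ hθ]; simp)
      fun h => absurd (Finset.mem_univ θ₀) h
  refine ⟨θ₀, fun v => ?_⟩
  have := hval 1
  rw [h1, map_one, Units.val_one, mul_one] at this
  rw [hval v, ← this, one_mul]

/-- A generalized character of an abelian group. -/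
theorem of_genChar [Fintype A] (h : IsGeneralizedCharacter A F) : InA hM F := by
  classical
  obtain ⟨a, b, ha, hb, rfl⟩ := h
  suffices key : ∀ F : A → ℂ, IsCharacter A F → InA hM F from
    ((key a ha).sub (key b hb)).congr fun v => rfl
  intro F hF
  choose k hk using fun θ : IrrCharacter A => classInner_char_nat hF (isCharacter_of_irr θ.2)
  have hexp := eq_sum_irr (isClassFunction_char hF)
  refine (finset_sum (s := Finset.univ) (f := fun θ v => (k θ : ℂ) * (θ : A → ℂ) v) fun θ _ => ?_).congr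
    fun v => by rw [congrFun hexp v]; simp [hk]
  obtain ⟨f, hf⟩ := exists_hom_of_degree_one (isCharacter_of_irr θ.2)
    (degree_one_of_commutative mul_comm θ.2)
  refine ((smul (q := (k θ : ℚ)) (natCast_mem (Rp hM) _) (lin f)).congr fun v => ?_)
  rw [congrFun hf v]; simp

/-- The index times the indicator of a subgroup. -/
theorem indicator [Fintype A] (Q : Subgroup A) [DecidablePred (· ∈ Q)] :
    InA hM fun v : A => if v ∈ Q then (Q.index : ℂ) else 0 := by
  classical
  haveI := Fintype.ofFinite (A →* ℂˣ)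
  refine (finset_sum (s := Finset.univ.filter fun θ : A →* ℂˣ => ∀ q ∈ Q, θ q = 1)
    (f := fun θ v => (θ v : ℂ)) fun θ _ => lin θ).congr fun v => ?_
  split_ifs with hv
  · rw [Finset.sum_congr rfl fun θ hθ => by
      rw [(Finset.mem_filter.1 hθ).2 v hv, Units.val_one], Finset.sum_const, nsmul_eq_mul, mul_one]
    congr 1
    rw [Q.index_eq_card, ← CommGroup.card_domRestrictHom_ker ℂ Q, ← Fintype.card_subtype,
      ← Nat.card_eq_fintype_card]
    refine Nat.card_congr (Equiv.subtypeEquivRight fun θ => ?_)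
    simp [MonoidHom.mem_ker, MonoidHom.domRestrict_eq_one_iff]
  · obtain ⟨φ, hφ, hφv⟩ : ∃ φ : A →* ℂˣ, (∀ y ∈ Q, φ y = 1) ∧ φ v ≠ 1 := by
      by_contra hno
      push Not at hno
      exact hv ((CommGroup.forall_monoidHom_apply_eq_one_iff ℂ Q v).1 hno)
    set S := ∑ θ ∈ Finset.univ.filter (fun θ : A →* ℂˣ => ∀ q ∈ Q, θ q = 1), (θ v : ℂ) with hS
    have h2 : (φ v : ℂ) * S = S := by
      rw [hS, Finset.mul_sum]
      refine Finset.sum_equiv (Equiv.mulLeft φ) (fun θ => ?_) fun θ _ => by simp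
      simp only [Finset.mem_filter, Finset.mem_univ, true_and, Equiv.coe_mulLeft,
        MonoidHom.mul_apply]
      exact forall₂_congr fun q hq => by rw [hφ q hq, one_mul]
    have h3 : ((φ v : ℂ) - 1) * S = 0 := by rw [sub_mul, one_mul, h2, sub_self]
    exact (mul_eq_zero.1 h3).resolve_left (sub_ne_zero.2 fun e => hφv (Units.ext e))

end InA

end CfsgLib.Blocks.AbFree
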