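import Cfsg.Agent.Lib.Blocks.AbFree.Ext

/-!
# Gluing signs to a function with rational coefficients
-/

namespace CfsgLib.Blocks.AbFree

open Cfsg CfsgLib.CharTheory
open scoped ComplexConjugate

set_option linter.unusedVariables false
set_option linter.unusedSimpArgs false
set_option linter.style.haveILetI false
set_option linter.unusedSectionVars false

universe u

variable {p : ℕ} {M : Ideal AlgInt} {A : Type u} [CommGroup A] [Fintype A]

/-- The hypotheses on the numbers attached to the subgroups. -/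
structure Levels (hM : IsPModular p M) (m : Subgroup A → ℕ) : Prop where
  isP : IsPGroup p A
  nd : ∀ Q : Subgroup A, Q ≠ ⊥ → ¬ p ∣ m Q
  loc_fn : ∀ Q : Subgroup A, Q ≠ ⊥ → ∃ W : A → ℂ, InA hM W ∧ (∀ v, ∀ q ∈ Q, W (v * q) = W v) ∧
    (∀ v, W v * conj (W v) = ((m (Q ⊔ Subgroup.zpowers v) : ℕ) : ℂ) ^ 2) ∧
    ∀ v, IsIntegral ℤ (W v / ((m (Q ⊔ Subgroup.zpowers v) : ℕ) : ℂ))

/-- A sum against an indicator. -/
theorem sum_indicator (Q : Subgroup A) [DecidablePred (· ∈ Q)] (F : A → ℂ) (r : ℂ)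
    (hF : ∀ q ∈ Q, F q = r) :
    ∑ v : A, (if v ∈ Q then F v else 0) = (Nat.card Q : ℂ) * r := by
  classical
  rw [← Finset.sum_filter, Finset.sum_congr rfl fun v hv => hF v (Finset.mem_filter.1 hv).2,
    Finset.sum_const, nsmul_eq_mul, Nat.card_eq_fintype_card, Fintype.card_subtype]

/-- A character separating a point from a subgroup. -/
theorem exists_sep (Q : Subgroup A) {z : A} (hz : z ∉ Q) :
    ∃ θ : A →* ℂˣ, (∀ q ∈ Q, θ q = 1) ∧ θ z ≠ 1 := by
  by_contra hno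
  push Not at hno
  exact hz ((CommGroup.forall_monoidHom_apply_eq_one_iff ℂ Q z).1 hno)

theorem sum_mul_translate {F : A → ℂ} {z : A} {c : ℂ} (hc : c ≠ 1) (h : ∀ v, F (v * z) = c * F v) :
    ∑ v : A, F v = 0 := by
  have e : c * ∑ v : A, F v = ∑ v : A, F v := by
    rw [Finset.mul_sum]
    exact Fintype.sum_equiv (Equiv.mulRight z) _ _ fun v => by
      rw [Equiv.coe_mulRight, h]
  have : (c - 1) * ∑ v : A, F v = 0 := by rw [sub_mul, one_mul, e, sub_self]
  exact (mul_eq_zero.1 this).resolve_left (sub_ne_zero.2 hc)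

/-- The squares together with `Q`. -/
def sqSup (Q : Subgroup A) : Subgroup A := (powMonoidHom 2 : A →* A).range ⊔ Q

theorem zpowers_pow_eq' {B : Type u} [Group B] [Finite B] {v : B} {m : ℕ}
    (hm : m.Coprime (orderOf v)) : Subgroup.zpowers (v ^ m) = Subgroup.zpowers v := by
  refine Subgroup.eq_of_le_of_card_ge (Subgroup.zpowers_le.2
    (Subgroup.pow_mem _ (Subgroup.mem_zpowers v) m)) (le_of_eq ?_)
  rw [Nat.card_zpowers, Nat.card_zpowers, hm.symm.orderOf_pow]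

theorem mem_sqSup {Q : Subgroup A} {z : A} : z ∈ sqSup Q ↔ ∃ w : A, ∃ q ∈ Q, w ^ 2 * q = z := by
  rw [sqSup, Subgroup.mem_sup]
  constructor
  · rintro ⟨_, ⟨w, rfl⟩, q, hq, rfl⟩
    exact ⟨w, q, hq, rfl⟩
  · rintro ⟨w, q, hq, rfl⟩
    exact ⟨w ^ 2, ⟨w, rfl⟩, q, hq, rfl⟩

/-- Generation modulo squares is generation. -/
theorem eq_top_of_sqSup (hA : IsPGroup 2 A) (Q : Subgroup A) (x : A)
    (h : Subgroup.zpowers x ⊔ sqSup Q = ⊤) : Subgroup.zpowers x ⊔ Q = ⊤ := by
  set L := Subgroup.zpowers x ⊔ Q with hL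
  refine eq_top_iff.2 fun a _ => ?_
  have step : ∀ k : ℕ, ∀ a : A, ∃ l ∈ L, ∃ w : A, a = l * w ^ 2 ^ k := by
    intro k
    induction k with
    | zero => exact fun a => ⟨1, one_mem _, a, by simp⟩
    | succ k ih =>
      intro a
      obtain ⟨l, hl, w, rfl⟩ := ih a
      have hw : w ∈ Subgroup.zpowers x ⊔ sqSup Q := h ▸ Subgroup.mem_top w
      obtain ⟨y, hy, z, hz, rfl⟩ := Subgroup.mem_sup.1 hw
      obtain ⟨u, q, hq, rfl⟩ := mem_sqSup.1 hz
      refine ⟨l * ((y * q) ^ 2 ^ k), L.mul_mem hl (L.pow_mem (L.mul_mem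
        (le_sup_left (b := Q) hy) (le_sup_right (a := Subgroup.zpowers x) hq)) _), u, ?_⟩
      rw [show y * (u ^ 2 * q) = (y * q) * u ^ 2 by rw [mul_comm (u ^ 2) q, mul_assoc], mul_pow,
        ← pow_mul, pow_succ' 2 k, mul_assoc]
  obtain ⟨k, hk⟩ := IsPGroup.iff_card.1 hA
  obtain ⟨l, hl, w, rfl⟩ := step k a
  rw [← hk, pow_card_eq_one', mul_one]
  exact hl

/-- Adjoining an element whose square lies in a subgroup at most doubles its order. -/
theorem card_sup_le_two (H : Subgroup A) {y : A} (hy : y ^ 2 ∈ H) :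
    Nat.card (Subgroup.zpowers y ⊔ H : Subgroup A) ≤ 2 * Nat.card H := by
  classical
  have hsub : (Finset.univ.filter fun a => a ∈ (Subgroup.zpowers y ⊔ H : Subgroup A)) ⊆
      (Finset.univ.filter fun a => a ∈ H) ∪ (Finset.univ.filter fun a => a ∈ H).image (y * ·) := by
    intro a ha
    obtain ⟨b, hb, h, hh, rfl⟩ := Subgroup.mem_sup.1 (Finset.mem_filter.1 ha).2
    obtain ⟨i, rfl⟩ := Subgroup.mem_zpowers_iff.1 hb
    have hev : ∀ j : ℤ, y ^ (2 * j) ∈ H := fun j => by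
      rw [zpow_mul]; exact H.zpow_mem (by rwa [zpow_ofNat]) j
    rcases Int.even_or_odd i with ⟨j, rfl⟩ | ⟨j, rfl⟩
    · rw [← two_mul]
      exact Finset.mem_union_left _ (Finset.mem_filter.2 ⟨Finset.mem_univ _, H.mul_mem (hev j) hh⟩)
    · refine Finset.mem_union_right _ (Finset.mem_image.2 ⟨y ^ (2 * j) * h,
        Finset.mem_filter.2 ⟨Finset.mem_univ _, H.mul_mem (hev j) hh⟩, ?_⟩)
      rw [zpow_add, zpow_one, ← mul_assoc, mul_comm y]
  have := (Finset.card_le_card hsub).trans (Finset.card_union_le _ _)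
  have h2 := Finset.card_image_le (s := Finset.univ.filter fun a => a ∈ H) (f := (y * ·))
  simp only [Nat.card_eq_fintype_card, Fintype.card_subtype]
  omega

/-- No sign function differs from a multiple of an indicator by half a regular character. -/
theorem no_half (hM : IsPModular 2 M) (hA : IsPGroup 2 A) {Q : Subgroup A} (h8 : 8 ∣ Q.index)
    {ε : A → ℤ} (hs : ∀ v, ε v = 1 ∨ ε v = -1) (hq : ∀ q ∈ Q, ε q = 1)
    (hgal : ∀ v, ∀ j : ℕ, j.Coprime (Nat.card A) → ε (v ^ j) = ε v)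
    (hc : ∀ v, ∀ q ∈ Q, ε (v * q) = ε v) [DecidablePred (· ∈ Q)]
    (h : InA hM fun v => (ε v : ℂ) + if v ∈ Q then ((Q.index / 2 : ℕ) : ℂ) else 0) : False := by
  classical
  obtain ⟨t, ht⟩ := h8
  have htpos : 0 < t := Nat.pos_of_ne_zero fun e => Q.index_ne_zero_of_finite (by rw [ht, e])
  have hhalf : Q.index / 2 = 4 * t := by omega
  have hcard : Nat.card Q * (8 * t) = Nat.card A := by rw [← ht, Subgroup.card_mul_index]
  -- linearity on proper subgroups
  have hlin : ∀ H : Subgroup A, Q ≤ H → H ≠ ⊤ →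
      ∀ a ∈ H, ∀ b ∈ H, ε (a * b) = ε a * ε b := by
    intro H hQH hH a ha b hb
    haveI : Fintype H := Fintype.ofFinite H
    have hdvd : (Q.subgroupOf H).index * H.index = Q.index := Subgroup.relIndex_mul_index hQH
    have h2 : 2 ∣ H.index := by
      obtain ⟨k, hk⟩ := hA.index H
      rcases k with _ | k
      · exact absurd (Subgroup.index_eq_one.1 (by simpa using hk)) hH
      · exact ⟨2 ^ k, by rw [hk, pow_succ']⟩
    obtain ⟨q, hq2⟩ := h2
    have hmul : 4 * t = (Q.subgroupOf H).index * q := by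
      rw [hq2] at hdvd
      have : 2 * ((Q.subgroupOf H).index * q) = 8 * t := by rw [← ht, ← hdvd]; ring
      omega
    have h1 : InA hM fun x : H => (ε x : ℂ) := by
      refine (((h.comp H.subtype).sub
        ((InA.indicator (hM := hM) (Q.subgroupOf H)).smul (q := (q : ℚ))
          (natCast_mem _ _))).congr fun x => ?_)
      simp only [Subgroup.coe_subtype, Subgroup.mem_subgroupOf, hhalf, hmul]
      split_ifs <;> push_cast <;> ring
    obtain ⟨θ, hθ⟩ := h1.higman (hA.to_subgroup H)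
      (fun x => by rcases hs x with e | e <;> rw [e] <;> norm_num)
      (fun x => isIntegral_algebraMap (R := ℤ) (A := ℂ) (x := ε x)) (by rw [hq _ (by simpa using Q.one_mem)]; norm_num)
    have := hθ (⟨a, ha⟩ * ⟨b, hb⟩)
    rw [map_mul, Units.val_mul, ← hθ, ← hθ, Subgroup.coe_mul] at this
    exact_mod_cast this
  -- the test characters
  have hcoef : ∀ (θ : A →* ℂˣ), (∀ q ∈ Q, θ q = 1) →
      ∃ r ∈ Rp hM, (r : ℂ) * (Nat.card A : ℂ) =
        ∑ v : A, (ε v : ℂ) * (θ⁻¹ v : ℂˣ) + (Nat.card Q : ℂ) * ((4 * t : ℕ) : ℂ) := by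
    intro θ hθ
    obtain ⟨r, hr, hre⟩ := h.coeff θ
    refine ⟨r, hr, hre.trans ?_⟩
    simp only [add_mul, Finset.sum_add_distrib, ite_mul, zero_mul, hhalf]
    congr 1
    exact sum_indicator Q _ _ fun q hq' => by
      rw [MonoidHom.inv_apply, hθ q hq', inv_one, Units.val_one, mul_one]
  have hhalf' : ∀ (z : ℤ) (r : ℚ), r ∈ Rp hM →
      (r : ℂ) * (Nat.card A : ℂ) = (z : ℂ) * (Nat.card A : ℂ) +
        (Nat.card Q : ℂ) * ((4 * t : ℕ) : ℂ) → False := by
    intro z r hr e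
    have hQ0 : (0 : ℚ) < (Nat.card Q : ℚ) := Nat.cast_pos.2 Nat.card_pos
    have e' : r * ((Nat.card A : ℕ) : ℚ) =
        (z : ℚ) * (Nat.card A : ℕ) + (Nat.card Q : ℕ) * ((4 * t : ℕ) : ℚ) := by exact_mod_cast e
    rw [← hcard] at e'
    push_cast at e'
    have ht0 : (0 : ℚ) < t := Nat.cast_pos.2 htpos
    have hr' : r = ((2 * z + 1 : ℤ) : ℚ) / ((2 : ℕ) : ℚ) ^ 1 := by
      rw [pow_one, Nat.cast_ofNat, eq_div_iff two_ne_zero]
      push_cast
      refine mul_right_cancel₀ (ne_of_gt (mul_pos hQ0 ht0)) ?_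
      linear_combination (1 / 4 : ℚ) * e'
    obtain ⟨w, hw⟩ := pow_dvd_of_mem hM (hr' ▸ hr)
    push_cast at hw
    omega
  by_cases hcyc : ∃ y, Subgroup.zpowers y ⊔ Q = ⊤
  · -- cyclic quotient
    obtain ⟨y, hy⟩ := hcyc
    set H := Subgroup.zpowers (y ^ 2) ⊔ Q with hH
    have hHQ : Q ≤ H := le_sup_right
    have hcle : ∀ z : A, ∀ K : Subgroup A, z ^ 2 ∈ K →
        Nat.card (Subgroup.zpowers z ⊔ K : Subgroup A) ≤ 2 * Nat.card K := fun z K => card_sup_le_two K
    have hQpos : 0 < Nat.card Q := Nat.card_pos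
    have hy4 : y ^ 4 ∉ Q := by
      intro h4
      have h1 := hcle y H (le_sup_left (b := Q) (Subgroup.mem_zpowers _))
      rw [show Subgroup.zpowers y ⊔ H = ⊤ by
        rw [eq_top_iff, ← hy]; exact sup_le_sup_left hHQ _, Subgroup.card_top] at h1
      have h2 := hcle (y ^ 2) Q (by rwa [← pow_mul])
      rw [← hH] at h2
      nlinarith
    have hHne : H ≠ ⊤ := by
      intro e
      have hm : y ∈ Subgroup.zpowers y ⊔ Q := le_sup_left (b := Q) (Subgroup.mem_zpowers _)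
      have h1 := eq_top_of_sqSup hA Q (1 : A) (by
        rw [eq_top_iff, ← e, hH]
        refine sup_le ?_ ((le_sup_right (a := (powMonoidHom 2 : A →* A).range)).trans le_sup_right)
        exact (Subgroup.zpowers_le.2 (show y ^ 2 ∈ sqSup Q from
          mem_sqSup.2 ⟨y, 1, Q.one_mem, mul_one _⟩)).trans le_sup_right)
      rw [Subgroup.zpowers_one_eq_bot, bot_sup_eq] at h1
      exact hy4 (h1 ▸ Subgroup.mem_top _)
    obtain ⟨θ, hθQ, hθy⟩ := exists_sep Q hy4
    obtain ⟨r, hr, hre⟩ := hcoef θ hθQ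
    refine hhalf' 0 r hr (hre.trans ?_)
    rw [Int.cast_zero, zero_mul]
    congr 1
    set f : A → ℂ := fun v => ((θ⁻¹ v : ℂˣ) : ℂ) with hf
    have hfmul : ∀ a b, f (a * b) = f a * f b := fun a b => by
      simp only [hf]; rw [map_mul, Units.val_mul]
    have hz2 : ((θ (y ^ 2) : ℂˣ) : ℂ) ^ 2 ≠ 1 := fun e => hθy (Units.ext (by
      rw [Units.val_one, ← e, ← Units.val_pow_eq_pow_val, ← map_pow, ← pow_mul]))
    have hy2H : y ^ 2 ∈ H := le_sup_left (b := Q) (Subgroup.mem_zpowers _)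
    have hne1 : f (y ^ 2) ≠ 1 := fun e => hz2 (by
      rw [show ((θ (y ^ 2) : ℂˣ) : ℂ) = (f (y ^ 2))⁻¹ by simp [hf], e]; simp)
    -- outside `H` the sign is constant
    have hout : ∀ v, v ∉ H → ε v = ε y := by
      intro v hv
      obtain ⟨b, hb, q, hq', rfl⟩ := Subgroup.mem_sup.1 (hy ▸ Subgroup.mem_top v :
        v ∈ Subgroup.zpowers y ⊔ Q)
      obtain ⟨i, rfl⟩ := mem_powers_iff_mem_zpowers.2 hb |> (Submonoid.mem_powers_iff _ _).1
      rw [hc _ q hq']
      refine hgal y i ?_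
      obtain ⟨k, hk⟩ := IsPGroup.iff_card.1 hA
      rw [hk]
      refine Nat.Coprime.pow_right _ (Nat.coprime_two_right.2 ?_)
      rcases Nat.even_or_odd i with ⟨j, rfl⟩ | ho
      · exfalso
        exact hv (H.mul_mem (by rw [← two_mul, pow_mul]; exact H.pow_mem hy2H j) (hHQ hq'))
      · exact ho
    have hsplit : ∀ F : A → ℂ, ∑ v : A, F v =
        ∑ v ∈ Finset.univ.filter (· ∈ H), F v + ∑ v ∈ Finset.univ.filter (· ∉ H), F v := fun F =>
      (Finset.sum_filter_add_sum_filter_not _ _ _).symm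
    have hsubH : ∀ F : A → ℂ, ∀ c : ℂ, c ≠ 1 → (∀ v ∈ H, F (v * y ^ 2) = c * F v) →
        ∑ v ∈ Finset.univ.filter (· ∈ H), F v = 0 := by
      intro F c hc1 hF
      rw [Finset.sum_filter]
      refine sum_mul_translate (z := y ^ 2) hc1 fun v => ?_
      by_cases hv : v ∈ H
      · rw [if_pos hv, if_pos (H.mul_mem hv hy2H), hF v hv]
      · rw [if_neg hv, if_neg fun hm => hv ((H.mul_mem_cancel_right hy2H).1 hm), mul_zero]
    have h1 : ∑ v ∈ Finset.univ.filter (· ∈ H), (ε v : ℂ) * f v = 0 := by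
      refine hsubH _ ((ε (y ^ 2) : ℂ) * f (y ^ 2)) ?_ fun v hv => ?_
      · intro e
        refine hz2 ?_
        rw [show ((θ (y ^ 2) : ℂˣ) : ℂ) = (f (y ^ 2))⁻¹ by simp [hf]]
        rcases hs (y ^ 2) with e' | e' <;> rw [e'] at e <;> push_cast at e
        · rw [show f (y ^ 2) = 1 by linear_combination e]; simp
        · rw [show f (y ^ 2) = -1 by linear_combination -e]; norm_num
      · rw [hlin H hHQ hHne v hv _ hy2H, hfmul]
        push_cast
        ring
    have h2 : ∑ v ∈ Finset.univ.filter (· ∈ H), f v = 0 :=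
      hsubH _ _ hne1 fun v hv => by rw [hfmul, mul_comm]
    have h3 : ∑ v : A, f v = 0 := sum_mul_translate hne1 fun v => by rw [hfmul, mul_comm]
    rw [hsplit, h2, zero_add] at h3
    rw [hsplit, h1, zero_add, Finset.sum_congr rfl fun v hv => by
      rw [hout v (Finset.mem_filter.1 hv).2], ← Finset.mul_sum, h3, mul_zero]
  push Not at hcyc
  have hsq1 : ∀ w : A, ε (w ^ 2) = 1 := fun w => by
    have hw : w ∈ Subgroup.zpowers w ⊔ Q := le_sup_left (b := Q) (Subgroup.mem_zpowers w)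
    rw [sq, hlin _ le_sup_right (hcyc w) w hw w hw]
    rcases hs w with e | e <;> rw [e] <;> norm_num
  by_cases hΦ : sqSup Q ≤ Q
  · -- elementary abelian quotient
    have hhom : ∀ a b, ε (a * b) = ε a * ε b := by
      intro a b
      set H := Subgroup.zpowers a ⊔ (Subgroup.zpowers b ⊔ Q) with hH
      have hb2 : b ^ 2 ∈ Q := hΦ (mem_sqSup.2 ⟨b, 1, Q.one_mem, mul_one _⟩)
      have ha2 : a ^ 2 ∈ Subgroup.zpowers b ⊔ Q :=
        le_sup_right (a := Subgroup.zpowers b) (hΦ (mem_sqSup.2 ⟨a, 1, Q.one_mem, mul_one _⟩))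
      have hle := (card_sup_le_two _ ha2).trans (Nat.mul_le_mul le_rfl (card_sup_le_two Q hb2))
      refine hlin H (le_sup_right.trans le_sup_right) (fun e => ?_) a
        (le_sup_left (b := Subgroup.zpowers b ⊔ Q) (Subgroup.mem_zpowers a)) b
        (le_sup_right (a := Subgroup.zpowers a) (le_sup_left (b := Q) (Subgroup.mem_zpowers b)))
      rw [← hH, e, Subgroup.card_top] at hle
      have := Nat.card_pos (α := Q)
      nlinarith
    let θ : A →* ℂˣ := MonoidHom.mk' (fun v => Units.map (Int.castRingHom ℂ).toMonoidHom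
      ⟨ε v, ε v, by rcases hs v with e | e <;> rw [e] <;> rfl,
        by rcases hs v with e | e <;> rw [e] <;> rfl⟩) fun a b => Units.ext (by simp [hhom a b])
    have hθv : ∀ v, (θ v : ℂ) = (ε v : ℂ) := fun v => rfl
    obtain ⟨r, hr, hre⟩ := hcoef θ fun q hq' => Units.ext (by
      rw [hθv, hq q hq', Units.val_one, Int.cast_one])
    refine hhalf' 1 r hr (hre.trans ?_)
    congr 1
    rw [Int.cast_one, one_mul, Nat.card_eq_fintype_card, ← Finset.card_univ,
      Finset.card_eq_sum_ones, Nat.cast_sum]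
    refine Finset.sum_congr rfl fun v _ => ?_
    rw [MonoidHom.inv_apply, Units.val_inv_eq_inv_val, hθv]
    rcases hs v with e | e <;> rw [e] <;> norm_num
  · obtain ⟨z, hz, hzQ⟩ := SetLike.not_le_iff_exists.1 hΦ
    obtain ⟨θ, hθQ, hθz⟩ := exists_sep Q hzQ
    obtain ⟨r, hr, hre⟩ := hcoef θ hθQ
    refine hhalf' 0 r hr (hre.trans ?_)
    rw [Int.cast_zero, zero_mul]
    congr 1
    refine sum_mul_translate (z := z) (c := ((θ⁻¹ z : ℂˣ) : ℂ))
      (fun e => hθz (inv_eq_one.1 (Units.ext e))) fun v => ?_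
    have hH : Subgroup.zpowers v ⊔ sqSup Q ≠ ⊤ := fun e => hcyc v (eq_top_of_sqSup hA Q v e)
    rw [hlin _ ((le_sup_right (a := (powMonoidHom 2 : A →* A).range)).trans le_sup_right) hH v
      (le_sup_left (b := sqSup Q) (Subgroup.mem_zpowers v)) z
      (le_sup_right (a := Subgroup.zpowers v) hz)]
    obtain ⟨w, q, hq', rfl⟩ := mem_sqSup.1 hz
    rw [hc _ q hq', hsq1, mul_one, map_mul θ⁻¹, Units.val_mul]
    ring

/-- A real function from the values of a function of constant absolute values. -/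
theorem exists_real (hM : IsPModular 2 M) (hA : IsPGroup 2 A) {Q : Subgroup A} {W : A → ℂ}
    {m : A → ℕ} (hW : InA hM W) (hWc : ∀ v, ∀ q ∈ Q, W (v * q) = W v)
    (hm : ∀ v, W v * conj (W v) = (m v : ℂ) ^ 2) (hnd : ∀ v, ¬ 2 ∣ m v)
    (hint : ∀ v, IsIntegral ℤ (W v / (m v : ℂ))) :
    ∃ W' : A → ℂ, InA hM W' ∧ (∀ v, ∀ q ∈ Q, W' (v * q) = W' v) ∧
      ∀ v, W' v = (m v : ℂ) ∨ W' v = -(m v : ℂ) := by
  classical
  haveI : Fact (Nat.Prime 2) := ⟨Nat.prime_two⟩
  have hm0 : ∀ v, (m v : ℂ) ≠ 0 := fun v => Nat.cast_ne_zero.2 fun e => hnd v (e ▸ dvd_zero 2)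
  have hW0 : ∀ v, W v ≠ 0 := fun v e => by
    have := hm v
    rw [e, zero_mul] at this
    exact pow_ne_zero _ (hm0 v) this.symm
  set r : A → ℂ := fun v => W v⁻¹ * (W v)⁻¹ with hr
  have hconj : ∀ v, W v⁻¹ = conj (W v) := hW.apply_inv
  have hres : res hM (W 1) ≠ 0 := by
    intro e
    have h1 := congrArg (res hM) (hm 1)
    rw [← hconj, inv_one, res_mul hM (hW.mem_loc_of hA 1).1 (hW.mem_loc_of hA 1).1, e, mul_zero,
      sq, ← Nat.cast_mul, res_natCast] at h1
    haveI := res_charP hM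
    exact (Nat.Prime.not_dvd_mul Nat.prime_two (hnd 1) (hnd 1))
      ((CharP.cast_eq_zero_iff (AlgInt ⧸ M) 2 _).1 h1.symm)
  have hrA : InA hM r := hW.comp_inv.mul (hW.inv hA hres)
  have hconjint : ∀ v, IsIntegral ℤ (conj (W v / (m v : ℂ))) := fun v =>
    (hint v).map ((starRingEnd ℂ).toIntAlgHom)
  have hrv : ∀ v, r v = conj (W v / (m v : ℂ)) ^ 2 := fun v => by
    rw [hr]
    simp only [hconj]
    rw [map_div₀, map_natCast, div_pow, eq_div_iff (pow_ne_zero _ (hm0 v)), ← hm v]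
    field_simp [hW0 v]
  obtain ⟨lam, hlam⟩ := hrA.higman hA (fun v => by
      simp only [hr, hconj, map_mul, map_inv₀, Complex.conj_conj]
      field_simp [hW0 v, (map_ne_zero (starRingEnd ℂ)).2 (hW0 v)])
    (fun v => by rw [hrv]; exact (hconjint v).pow 2)
    (by rw [hr]; simp only [inv_one]; rw [mul_inv_cancel₀ (hW0 1)])
  -- elements with square in `Q`
  have hinv : ∀ v, v ^ 2 ∈ Q → lam v = 1 := fun v hv => Units.ext (by
    rw [← hlam, hr, Units.val_one]
    simp only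
    rw [show W v⁻¹ = W v by
      rw [← hWc v⁻¹ (v ^ 2) hv]; congr 1; group, mul_inv_cancel₀ (hW0 v)])
  -- a square root of `lam`
  have hker : ∀ v, v ^ 2 = 1 → lam v = 1 := fun v hv => hinv v (hv ▸ Q.one_mem)
  set S := sqSup Q with hS
  have hwell : ∀ w w' : A, ∀ q ∈ Q, ∀ q' ∈ Q, w ^ 2 * q = w' ^ 2 * q' → lam w = lam w' := by
    intro w w' q hq q' hq' e
    refine mul_inv_eq_one.1 ?_
    rw [← map_inv, ← map_mul]
    refine hinv _ ?_
    rw [mul_pow, inv_pow, show w ^ 2 * (w' ^ 2)⁻¹ = q' * q⁻¹ by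
      rw [eq_mul_inv_iff_mul_eq, mul_right_comm, e, mul_inv_cancel_comm]]
    exact Q.mul_mem hq' (Q.inv_mem hq)
  choose sq sqq hsqq hsqe using fun z : S => mem_sqSup.1 z.2
  let μ₀ : S →* ℂˣ := MonoidHom.mk' (fun z => lam (sq z)) fun a b => by
    rw [← map_mul]
    refine hwell _ _ (sqq (a * b)) (hsqq _) (sqq a * sqq b) (Q.mul_mem (hsqq a) (hsqq b)) ?_
    rw [hsqe, mul_pow, mul_mul_mul_comm, hsqe, hsqe, Subgroup.coe_mul]
  obtain ⟨μ, hμ⟩ := MonoidHom.domRestrict_surjective (M := ℂ) S μ₀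
  have hμv : ∀ z : S, μ z = lam (sq z) := fun z => DFunLike.congr_fun hμ z
  have hμ2 : ∀ v, μ v ^ 2 = lam v := fun v => by
    have hz : v ^ 2 ∈ S := mem_sqSup.2 ⟨v, 1, Q.one_mem, mul_one _⟩
    rw [← map_pow, show μ (v ^ 2) = μ ((⟨v ^ 2, hz⟩ : S) : A) from rfl, hμv]
    exact hwell _ _ _ (hsqq _) 1 Q.one_mem (by rw [hsqe, mul_one])
  have hμQ : ∀ q ∈ Q, μ q = 1 := fun q hq => by
    have hz : q ∈ S := le_sup_right (a := (powMonoidHom 2 : A →* A).range) hq
    rw [show μ q = μ ((⟨q, hz⟩ : S) : A) from rfl, hμv, ← map_one lam]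
    exact hwell _ _ _ (hsqq _) q hq (by rw [hsqe, one_pow, one_mul])
  refine ⟨fun v => W v * (μ v : ℂ), hW.mul (InA.lin μ), fun v q hq => by
    show W (v * q) * (μ (v * q) : ℂ) = _
    rw [hWc v q hq, map_mul, hμQ q hq, mul_one], fun v => ?_⟩
  have hsqv : (W v * (μ v : ℂ)) ^ 2 = (m v : ℂ) ^ 2 := by
    rw [mul_pow, ← Units.val_pow_eq_pow_val, hμ2, ← hlam, hr, ← hm v, ← hconj]
    simp only
    field_simp [hW0 v]
  exact sq_eq_sq_iff_eq_or_eq_neg.1 hsqv

/-- The step of the gluing. -/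
theorem Levels.step {hM : IsPModular p M} {m : Subgroup A → ℕ} (L : Levels hM m) {Q : Subgroup A}
    (hQ : Q ≠ ⊥)
    {Φ : A → ℤ} (hΦA : InA hM fun v => (Φ v : ℂ)) (hΦc : ∀ v, ∀ q ∈ Q, Φ (v * q) = Φ v)
    (hoff : ∀ v, v ∉ Q → Φ v = m (Q ⊔ Subgroup.zpowers v) ∨
      Φ v = -(m (Q ⊔ Subgroup.zpowers v) : ℤ)) :
    (Q.index : ℤ) ∣ (m Q : ℤ) - Φ 1 ∨ (Q.index : ℤ) ∣ -(m Q : ℤ) - Φ 1 := by
  classical
  haveI : Fact p.Prime := ⟨hM.1⟩
  obtain ⟨W, hWA, hWc, hWm, hWi⟩ := L.loc_fn Q hQ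
  obtain ⟨k, hk⟩ := L.isP.index Q
  have hin : ∀ v, v ∈ Q → Φ v = Φ 1 ∧ W v = W 1 ∧ Q ⊔ Subgroup.zpowers v = Q := fun v hv =>
    ⟨by rw [← hΦc 1 v hv, one_mul], by rw [← hWc 1 v hv, one_mul],
      sup_eq_left.2 (Subgroup.zpowers_le.2 hv)⟩
  set N := Φ 1 with hN
  set D : ℤ := N ^ 2 - (m Q : ℤ) ^ 2 with hD
  have hDA : InA hM fun v : A => if v ∈ Q then (D : ℂ) else 0 := by
    refine ((hΦA.mul hΦA).sub (hWA.mul hWA.comp_inv)).congr fun v => ?_
    rw [hWA.apply_inv, hWm]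
    split_ifs with hv
    · rw [(hin v hv).1, (hin v hv).2.2, hD]; push_cast; ring
    · rcases hoff v hv with e | e <;> rw [e] <;> push_cast <;> ring
  have hdvd : (Q.index : ℤ) ∣ D := by
    obtain ⟨q, hq, hqe⟩ := hDA.coeff 1
    rw [Finset.sum_congr rfl fun v _ => show (if v ∈ Q then (D : ℂ) else 0) *
      (((1 : A →* ℂˣ)⁻¹ v : ℂˣ) : ℂ) = if v ∈ Q then (D : ℂ) else 0 by simp,
      sum_indicator Q _ _ fun _ _ => rfl] at hqe
    have e' : q * ((Nat.card A : ℕ) : ℚ) = (Nat.card Q : ℕ) * (D : ℚ) := by exact_mod_cast hqe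
    rw [← Subgroup.card_mul_index Q, Nat.cast_mul, mul_left_comm] at e'
    have e2 := mul_left_cancel₀ (Nat.cast_ne_zero.2 Nat.card_pos.ne') e'
    rw [hk, Nat.cast_pow] at e2
    rw [hk, Nat.cast_pow]
    refine pow_dvd_of_mem hM ?_
    rwa [← e2, mul_div_cancel_right₀ _ (pow_ne_zero _ (Nat.cast_ne_zero.2 hM.1.ne_zero))]
  have hmQ : ¬ (p : ℤ) ∣ (m Q : ℤ) := fun h => L.nd Q hQ (Int.natCast_dvd_natCast.1 h)
  have hprod : (Q.index : ℤ) ∣ ((m Q : ℤ) - N) * (-(m Q : ℤ) - N) := by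
    rw [show ((m Q : ℤ) - N) * (-(m Q : ℤ) - N) = D by rw [hD]; ring]; exact hdvd
  rw [hk, Nat.cast_pow] at hprod ⊢
  by_cases hp2 : p = 2
  swap
  · have hpint : Prime (p : ℤ) := Nat.prime_iff_prime_int.1 hM.1
    by_cases h1 : (p : ℤ) ∣ (m Q : ℤ) - N
    · left
      refine (IsCoprime.of_isCoprime_of_dvd_left ?_ dvd_rfl).dvd_of_dvd_mul_right hprod
      refine IsCoprime.pow_left ((Prime.coprime_iff_not_dvd hpint).2 fun h2 => hmQ ?_)
      have h3 : (p : ℤ) ∣ 2 * (m Q : ℤ) := by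
        have := dvd_sub h1 h2
        rwa [show (m Q : ℤ) - N - (-(m Q : ℤ) - N) = 2 * (m Q : ℤ) by ring] at this
      refine (hpint.dvd_or_dvd h3).resolve_left fun h4 => hp2 ?_
      have := (Nat.prime_dvd_prime_iff_eq hM.1 Nat.prime_two).1 (by exact_mod_cast h4)
      exact this
    · right
      exact ((Prime.coprime_iff_not_dvd hpint).2 h1).pow_left.dvd_of_dvd_mul_left hprod
  subst hp2
  push_cast at hmQ hprod ⊢
  rcases k with _ | k
  · simp
  -- both factors are even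
  have hmodd : Odd (m Q : ℤ) := Int.not_even_iff_odd.1 fun h => hmQ (even_iff_two_dvd.1 h)
  obtain ⟨a, ha⟩ : (2 : ℤ) ∣ (m Q : ℤ) - N := by
    rcases Int.prime_two.dvd_or_dvd ((dvd_pow_self 2 (Nat.succ_ne_zero k)).trans hprod) with h | h
    · exact h
    · have := dvd_add h (dvd_mul_right (2 : ℤ) (m Q : ℤ))
      rwa [show -(m Q : ℤ) - N + 2 * (m Q : ℤ) = (m Q : ℤ) - N by ring] at this
  have hb : -(m Q : ℤ) - N = 2 * (a - m Q) := by rw [mul_sub, ← ha]; ring
  rw [ha, hb] at hprod ⊢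
  rcases k with _ | k
  · left; exact ⟨a, by ring⟩
  have hprod' : (2 : ℤ) ^ k ∣ a * (a - m Q) := by
    rw [show 2 * a * (2 * (a - (m Q : ℤ))) = 2 ^ 2 * (a * (a - m Q)) by ring,
      show (2 : ℤ) ^ (k + 1 + 1) = 2 ^ 2 * 2 ^ k by ring] at hprod
    exact (mul_dvd_mul_iff_left (by norm_num)).1 hprod
  rcases k with _ | k
  · -- index four
    rcases Int.even_or_odd a with he | ho
    · left; obtain ⟨c, rfl⟩ := he; exact ⟨c, by ring⟩
    · right; obtain ⟨c, hc⟩ := ho.sub_odd hmodd; exact ⟨c, by rw [hc]; ring⟩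
  -- one factor is an odd multiple of the half index
  by_contra hno
  push Not at hno
  obtain ⟨hno1, hno2⟩ := hno
  obtain ⟨σ, o, hσ, ho, hdiff⟩ : ∃ σ o : ℤ, (σ = 1 ∨ σ = -1) ∧ Odd o ∧
      σ * (m Q : ℤ) - N = 2 ^ (k + 2) * o := by
    have key : ∀ b c : ℤ, Odd c → (2 : ℤ) ^ (k + 1) ∣ b * c →
        ¬ (2 : ℤ) ^ (k + 1 + 1 + 1) ∣ 2 * b → ∃ o, Odd o ∧ 2 * b = 2 ^ (k + 2) * o := by
      intro b c hc hbc hn
      obtain ⟨o, rfl⟩ := (IsCoprime.pow_left ((Prime.coprime_iff_not_dvd Int.prime_two).2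
        fun h => Int.not_even_iff_odd.2 hc (even_iff_two_dvd.2 h))).dvd_of_dvd_mul_right hbc
      refine ⟨o, Int.not_even_iff_odd.1 fun ⟨s, hs⟩ => hn ⟨s, by rw [hs]; ring⟩, by ring⟩
    rcases Int.even_or_odd a with he | hoa
    · obtain ⟨o, ho, he'⟩ := key a _ (he.sub_odd hmodd) hprod' hno1
      exact ⟨1, o, Or.inl rfl, ho, by rw [one_mul, ← he', ha]⟩
    · obtain ⟨o, ho, he'⟩ := key _ a hoa (by rwa [mul_comm]) hno2
      exact ⟨-1, o, Or.inr rfl, ho, by rw [neg_one_mul, ← he', hb]⟩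
  have hA' := L.isP
  obtain ⟨W', hW'A, hW'c, hW'v⟩ := exists_real hM hA' hWA hWc hWm
    (fun v => L.nd _ fun e => hQ (le_bot_iff.1 (e ▸ le_sup_left))) hWi
  have hW'1 : W' 1 = (m Q : ℂ) ∨ W' 1 = -(m Q : ℂ) := by
    have := hW'v 1
    rwa [(hin 1 Q.one_mem).2.2] at this
  obtain ⟨τ, hτ, hτ1⟩ : ∃ τ : ℤ, (τ = 1 ∨ τ = -1) ∧ (τ : ℂ) * W' 1 = (σ : ℂ) * (m Q : ℂ) := by
    rcases hW'1 with e | e
    · exact ⟨σ, hσ, by rw [e]⟩
    · exact ⟨-σ, by omega, by rw [e]; push_cast; ring⟩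
  have hNodd : Odd N := by
    have e : N = σ * (m Q : ℤ) - 2 ^ (k + 2) * o := by linarith
    rw [e]
    refine Odd.sub_even ?_ (((even_two).pow_of_ne_zero (by omega)).mul_right o)
    rcases hσ with rfl | rfl
    · rwa [one_mul]
    · rw [neg_one_mul]; exact hmodd.neg
  have hΦ0 : ∀ v, Φ v ≠ 0 := fun v => by
    by_cases hv : v ∈ Q
    · rw [(hin v hv).1]; intro e; rw [e] at hNodd; exact absurd hNodd (by decide)
    · intro e
      have hnd := L.nd (Q ⊔ Subgroup.zpowers v) fun e' => hQ (le_bot_iff.1 (e' ▸ le_sup_left))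
      rcases hoff v hv with e' | e' <;> rw [e] at e' <;>
        exact hnd (by rw [show m (Q ⊔ Subgroup.zpowers v) = 0 by omega]; exact dvd_zero 2)
  have hres : res hM ((Φ 1 : ℤ) : ℂ) ≠ 0 := by
    haveI := res_charP hM
    have e : res hM ((N : ℤ) : ℂ) = (N : AlgInt ⧸ M) := by
      rw [← map_intCast (resHom hM), resHom_apply]; simp
    rw [← hN, e, Ne, CharP.intCast_eq_zero_iff (AlgInt ⧸ M) 2]
    exact fun h => Int.not_even_iff_odd.2 hNodd (even_iff_two_dvd.2 h)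
  have hr : InA hM fun v => (τ : ℂ) * W' v * ((Φ v : ℂ))⁻¹ :=
    ((InA.int τ).mul hW'A).mul (hΦA.inv hA' hres)
  set ε : A → ℤ := fun v =>
    if v ∈ Q then 1 else if (τ : ℂ) * W' v = (Φ v : ℂ) then 1 else -1 with hεdef
  have hεs : ∀ v, ε v = 1 ∨ ε v = -1 := fun v => by
    simp only [hεdef]; split_ifs <;> simp
  have hεout : ∀ v, v ∉ Q → (τ : ℂ) * W' v * ((Φ v : ℂ))⁻¹ = (ε v : ℂ) := by
    intro v hv
    have h0 : (Φ v : ℂ) ≠ 0 := Int.cast_ne_zero.2 (hΦ0 v)
    simp only [hεdef, if_neg hv]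
    split_ifs with h1
    · rw [h1, mul_inv_cancel₀ h0]; simp
    · have h2 : ((τ : ℂ) * W' v) ^ 2 = (Φ v : ℂ) ^ 2 := by
        rcases hτ with rfl | rfl <;> rcases hW'v v with e | e <;> rcases hoff v hv with e' | e' <;>
          rw [e, e'] <;> push_cast <;> ring
      rw [(sq_eq_sq_iff_eq_or_eq_neg.1 h2).resolve_left h1, neg_mul, mul_inv_cancel₀ h0]
      simp
  -- the correction on `Q`
  have hin' : ∀ v, v ∈ Q → (τ : ℂ) * W' v * ((Φ v : ℂ))⁻¹ =
      1 + ((2 ^ (k + 2) * o : ℤ) : ℂ) / (N : ℂ) := by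
    intro v hv
    have h0 : (N : ℂ) ≠ 0 := Int.cast_ne_zero.2 (hΦ0 1)
    rw [show W' v = W' 1 by rw [← hW'c 1 v hv, one_mul], hτ1, (hin v hv).1,
      show (σ : ℂ) * (m Q : ℂ) = (N : ℂ) + ((2 ^ (k + 2) * o : ℤ) : ℂ) by
        rw [← hdiff]; push_cast; ring, ← div_eq_mul_inv, add_div, div_self h0]
  obtain ⟨z, hz⟩ : (2 : ℤ) ∣ o - N := even_iff_two_dvd.1 (ho.sub_odd hNodd)
  have hzR : ((z : ℚ) / (N : ℚ)) ∈ Rp hM := by
    rw [mem_Rp, Rat.cast_div, Rat.cast_intCast, Rat.cast_intCast, div_eq_mul_inv]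
    exact (loc hM).mul_mem (memRing_intCast hM z) (memRing_inv hM (memRing_intCast hM N)
      fun h => hres (by rw [← hN]; exact (res_eq_zero_iff hM (memRing_intCast hM N)).2 h))
  have h8 : 8 ∣ Q.index := ⟨2 ^ k, by rw [hk]; ring⟩
  have hidx2 : Q.index / 2 = 2 ^ (k + 2) := by rw [hk, pow_succ]; omega
  refine no_half hM hA' h8 hεs (fun q hq => by simp [hεdef, hq]) (fun v j hj => ?_)
    (fun v q hq => ?_) ((hr.sub ((InA.indicator (hM := hM) Q).smul hzR)).congr fun v => ?_)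
  · have hiff : v ^ j ∈ Q ↔ v ∈ Q := by
      refine ⟨fun h => ?_, fun h => Q.pow_mem h j⟩
      have hv : v ∈ Subgroup.zpowers (v ^ j) := by
        rw [zpowers_pow_eq' (hj.coprime_dvd_right (orderOf_dvd_natCard v))]
        exact Subgroup.mem_zpowers v
      exact Subgroup.zpowers_le.2 h hv
    have e1 := hΦA.galois_int (fun w => ⟨Φ w, rfl⟩) v hj
    have e2 := hW'A.galois_int (fun w => by
      rcases hW'v w with e | e
      · exact ⟨m (Q ⊔ Subgroup.zpowers w), by rw [e]; simp⟩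
      · exact ⟨-(m (Q ⊔ Subgroup.zpowers w) : ℤ), by rw [e]; simp⟩) v hj
    simp only [hεdef, hiff, e2, e1]
  · simp only [hεdef, Subgroup.mul_mem_cancel_right Q hq, hΦc v q hq, hW'c v q hq]
  · by_cases hv : v ∈ Q
    · rw [if_pos hv, hin' v hv]
      simp only [hεdef, if_pos hv, hidx2]
      rw [hk]
      have h0 : (N : ℂ) ≠ 0 := Int.cast_ne_zero.2 (hΦ0 1)
      push_cast
      have hoz : (o : ℂ) = (N : ℂ) + 2 * (z : ℂ) := by
        have : o = N + 2 * z := by linarith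
        exact_mod_cast this
      field_simp
      rw [hoz]
      ring
    · rw [if_neg hv, hεout v hv]
      simp [hv]

/-- The functions attached to integer coefficients on the subgroups. -/
noncomputable def phiSum (n : Subgroup A → ℤ) (Q : Subgroup A) : ℤ :=
  open Classical in ∑ᶠ R : Subgroup A, if Q ≤ R then n R * (R.index : ℤ) else 0

theorem phiSum_inA (hM : IsPModular p M) (n : Subgroup A → ℤ) (Q : Subgroup A) :
    InA hM fun v => (phiSum n (Q ⊔ Subgroup.zpowers v) : ℂ) := by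
  classical
  haveI := Fintype.ofFinite (Subgroup A)
  refine (InA.finset_sum (s := Finset.univ) (f := fun R v => if Q ≤ R then
    (((n R : ℚ)) : ℂ) * (if v ∈ R then (R.index : ℂ) else 0) else 0) fun R _ => ?_).congr
      fun v => ?_
  · by_cases hR : Q ≤ R
    · simp only [if_pos hR]
      exact (InA.indicator R).smul (intCast_mem _ _)
    · simp only [if_neg hR]
      exact (InA.int 0).congr fun v => Int.cast_zero
  · rw [phiSum, finsum_eq_sum_of_fintype, Int.cast_sum]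
    refine Finset.sum_congr rfl fun R _ => ?_
    simp only [sup_le_iff, Subgroup.zpowers_le]
    by_cases h1 : Q ≤ R <;> by_cases h2 : v ∈ R <;> simp [h1, h2]

/-- The glued function. -/
theorem Levels.glue {hM : IsPModular p M} {m : Subgroup A → ℕ} (L : Levels hM m) :
    ∃ F : A → ℤ, InA hM (fun v => (F v : ℂ)) ∧
      (∀ v ≠ 1, F v = m (Subgroup.zpowers v) ∨ F v = -(m (Subgroup.zpowers v) : ℤ)) ∧
      ∀ v w, Subgroup.zpowers v = Subgroup.zpowers w → F v = F w := by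
  classical
  haveI : Fact p.Prime := ⟨hM.1⟩
  haveI := Fintype.ofFinite (Subgroup A)
  suffices h : ∀ k : ℕ, ∃ n : Subgroup A → ℤ, ∀ Q : Subgroup A, Q ≠ ⊥ → Q.index ≤ k →
      phiSum n Q = m Q ∨ phiSum n Q = -(m Q : ℤ) by
    obtain ⟨n, hn⟩ := h (Nat.card A)
    refine ⟨fun v => phiSum n (Subgroup.zpowers v), (phiSum_inA hM n ⊥).congr fun v => by
      rw [bot_sup_eq], fun v hv => hn _ (by simpa using hv) ?_, fun v w e => by simp only [e]⟩
    exact Nat.le_of_dvd Nat.card_pos (Subgroup.index_dvd_card _)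
  intro k
  induction k with
  | zero => exact ⟨0, fun Q _ h => absurd (Nat.le_zero.1 h) Subgroup.index_ne_zero_of_finite⟩
  | succ k ih =>
    obtain ⟨n, hn⟩ := ih
    have hidx : ∀ {Q R : Subgroup A}, Q < R → R.index < Q.index := fun {Q R} h => by
      have h1 := Subgroup.card_mul_index Q
      have h2 := Subgroup.card_mul_index R
      have h3 : Nat.card Q < Nat.card R := by
        refine lt_of_le_of_ne (Subgroup.card_le_of_le h.le) fun e => h.ne ?_
        exact Subgroup.eq_of_le_of_card_ge h.le e.ge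
      by_contra hle
      push Not at hle
      have := Nat.mul_lt_mul_of_lt_of_le h3 hle (Nat.pos_of_ne_zero Subgroup.index_ne_zero_of_finite)
      omega
    have hstep : ∀ Q : Subgroup A, Q ≠ ⊥ → Q.index = k + 1 →
        ∃ d : ℤ, phiSum n Q + (Q.index : ℤ) * d = m Q ∨
          phiSum n Q + (Q.index : ℤ) * d = -(m Q : ℤ) := by
      intro Q hQ hk
      have h1 : phiSum n (Q ⊔ Subgroup.zpowers (1 : A)) = phiSum n Q := by simp
      have h2 : ∀ v, ∀ q ∈ Q,
          phiSum n (Q ⊔ Subgroup.zpowers (v * q)) = phiSum n (Q ⊔ Subgroup.zpowers v) := by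
        intro v q hq
        refine congrArg (phiSum n) (le_antisymm (sup_le le_sup_left (Subgroup.zpowers_le.2 ?_))
          (sup_le le_sup_left (Subgroup.zpowers_le.2 ?_)))
        · exact Subgroup.mul_mem _ (le_sup_right (a := Q) (Subgroup.mem_zpowers v))
            (le_sup_left (b := Subgroup.zpowers v) hq)
        · have := Subgroup.mul_mem (Q ⊔ Subgroup.zpowers (v * q))
            (le_sup_right (a := Q) (Subgroup.mem_zpowers (v * q)))
            (le_sup_left (b := Subgroup.zpowers (v * q)) (Q.inv_mem hq))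
          rwa [mul_inv_cancel_right] at this
      have h3 : ∀ v, v ∉ Q → phiSum n (Q ⊔ Subgroup.zpowers v) = m (Q ⊔ Subgroup.zpowers v) ∨
          phiSum n (Q ⊔ Subgroup.zpowers v) = -(m (Q ⊔ Subgroup.zpowers v) : ℤ) := fun v hv => by
        refine hn _ (fun e => hQ (le_bot_iff.1 (e ▸ le_sup_left))) ?_
        have hlt : Q < Q ⊔ Subgroup.zpowers v := lt_of_le_of_ne le_sup_left fun e =>
          hv (e ▸ le_sup_right (a := Q) (Subgroup.mem_zpowers v))
        have := hidx hlt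
        omega
      rcases L.step hQ (phiSum_inA hM n Q) h2 h3 with ⟨d, hd⟩ | ⟨d, hd⟩
      · exact ⟨d, Or.inl (by rw [← h1, ← hd]; ring)⟩
      · exact ⟨d, Or.inr (by rw [← h1, ← hd]; ring)⟩
    choose! d hd using hstep
    refine ⟨fun R => n R + if R ≠ ⊥ ∧ R.index = k + 1 then d R else 0, fun Q hQ hle => ?_⟩
    have e : phiSum (fun R => n R + if R ≠ ⊥ ∧ R.index = k + 1 then d R else 0) Q =
        phiSum n Q + if Q.index = k + 1 then (Q.index : ℤ) * d Q else 0 := by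
      simp only [phiSum, finsum_eq_sum_of_fintype]
      rw [show (if Q.index = k + 1 then (Q.index : ℤ) * d Q else 0) = ∑ R : Subgroup A,
          if R = Q then (if Q.index = k + 1 then (Q.index : ℤ) * d Q else 0) else 0 by simp,
        ← Finset.sum_add_distrib]
      refine Finset.sum_congr rfl fun R _ => ?_
      by_cases hRQ : R = Q
      · subst hRQ
        simp only [le_refl, if_true, ne_eq, hQ, not_false_iff, true_and]
        split_ifs <;> ring
      · rw [if_neg hRQ]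
        by_cases hle' : Q ≤ R
        · have := hidx (lt_of_le_of_ne hle' (Ne.symm hRQ))
          rw [if_pos hle', if_pos hle', if_neg (show ¬(R ≠ ⊥ ∧ R.index = k + 1) by omega)]
          ring
        · rw [if_neg hle', if_neg hle', add_zero]
    rw [e]
    rcases Nat.lt_or_ge Q.index (k + 1) with h | h
    · rw [if_neg h.ne, add_zero]; exact hn Q hQ (by omega)
    · rw [if_pos (le_antisymm hle h)]; exact hd Q hQ (le_antisymm hle h)

end CfsgLib.Blocks.AbFree
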