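import Cfsg.Agent.Lib.Blocks.Star.Inst
import Cfsg.Agent.Lib.Blocks.CyclicValue
import Cfsg.Agent.Lib.Blocks.SectionBound

/-!
# The values of the characters on an idempotent of a group algebra
-/

namespace CfsgLib.Blocks.AbFree

open Cfsg CfsgLib.CharTheory MonoidAlgebra Star
open scoped ComplexConjugate

set_option linter.unusedVariables false
set_option linter.unusedSimpArgs false
set_option linter.style.haveILetI false
set_option linter.unusedSectionVars false

universe u v

variable {p : ℕ} {M : Ideal AlgInt} {K : Type u} [Group K] [Fintype K]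

/-- The trace of an element of the group algebra against a function. -/
noncomputable def tv {hM : IsPModular p M} (j : MonoidAlgebra (loc hM) K) (F : K → ℂ) : ℂ :=
  ∑ g, (j.coeff g : ℂ) * F g

variable {hM : IsPModular p M}

theorem tv_congr {j : MonoidAlgebra (loc hM) K} {F F' : K → ℂ} (h : ∀ g, F g = F' g) :
    tv j F = tv j F' :=
  Finset.sum_congr rfl fun g _ => by rw [h]

theorem tv_sum {ι : Type*} (s : Finset ι) (c : ι → ℂ) (F : ι → K → ℂ)
    (j : MonoidAlgebra (loc hM) K) :
    tv j (fun g => ∑ i ∈ s, c i * F i g) = ∑ i ∈ s, c i * tv j (F i) := by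
  simp only [tv, Finset.mul_sum]
  rw [Finset.sum_comm]
  exact Finset.sum_congr rfl fun i _ => Finset.sum_congr rfl fun g _ => by ring

theorem tv_eq_tau (j : MonoidAlgebra (loc hM) K) (χ : K → loc hM) :
    ((tau χ j : loc hM) : ℂ) = tv j (fun g => (χ g : ℂ)) := by
  show ((∑ g, j.coeff g * χ g : loc hM) : ℂ) = _
  push_cast
  rfl

theorem tau_single_mul (χ : K → loc hM) (x : K) (j : MonoidAlgebra (loc hM) K) :
    ((tau χ (single x 1 * j) : loc hM) : ℂ) = tv j (fun g => (χ (x * g) : ℂ)) := by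
  rw [tv_eq_tau, tv, tv]
  symm
  refine Fintype.sum_equiv (Equiv.mulLeft x) _ _ fun g => ?_
  rw [Equiv.coe_mulLeft, coeff_single_mul_apply, one_mul, inv_mul_cancel_left]

theorem tv_class {j : MonoidAlgebra (loc hM) K} {F : K → ℂ} (hF : IsClassFunction K F) :
    tv j F = ∑ θ : IrrCharacter K, classInner F (θ : K → ℂ) * tv j (θ : K → ℂ) := by
  rw [← tv_sum]
  refine tv_congr fun g => ?_
  conv_lhs => rw [congrFun (eq_sum_irr hF) g]
  simp [Finset.sum_apply]

/-- The coefficients of an idempotent sum to zero over every singular class. -/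
theorem tv_singular {j : MonoidAlgebra (loc hM) K} (hj : j * j = j) {F : K → ℂ}
    (hF : IsClassFunction K F) (hreg : ∀ g, ¬ p ∣ orderOf g → F g = 0) : tv j F = 0 := by
  classical
  haveI : Fact p.Prime := ⟨hM.1⟩
  let P : K →* Matrix K K (loc hM) :=
    { toFun := fun g => Matrix.of fun a b => if g * b = a then 1 else 0
      map_one' := by ext a b; simp [Matrix.one_apply, eq_comm]
      map_mul' := fun g g' => by
        ext a b
        rw [Matrix.mul_apply, Finset.sum_eq_single (g' * b)]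
        · simp [mul_assoc]
        · intro x _ hx
          simp [Ne.symm hx]
        · simp }
  let R : Matrix K K (loc hM) := Matrix.of fun a b => j.coeff (b⁻¹ * a)
  have hRR : R * R = R := by
    ext a c
    have h1 : j.coeff (c⁻¹ * a) = ∑ h, j.coeff h * j.coeff (h⁻¹ * (c⁻¹ * a)) := by
      conv_lhs => rw [← hj, coeff_mul_sum]
    rw [Matrix.mul_apply]
    simp only [R, Matrix.of_apply]
    rw [h1]
    refine congrArg Subtype.val (Fintype.sum_equiv (Equiv.mulLeft c⁻¹) _ _ fun b => ?_)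
    rw [Equiv.coe_mulLeft, show (c⁻¹ * b)⁻¹ * (c⁻¹ * a) = b⁻¹ * a by group, mul_comm]
  have htr : ∀ y : K, p ∣ orderOf y → ∑ a, (j.coeff (a⁻¹ * y⁻¹ * a) : ℂ) = 0 := by
    intro y hy
    let st := MulAction.orbitRel (Subgroup.zpowers y) K
    have hr : ∀ b : K, ∃ i : ℤ, b = y ^ i * (Quotient.mk st b).out := by
      intro b
      obtain ⟨⟨_, i, rfl⟩, hi⟩ :=
        MulAction.orbitRel_apply.1 (Quotient.mk_out (s := st) b)
      refine ⟨-i, ?_⟩
      rw [zpow_neg, eq_inv_mul_iff_mul_eq]
      exact hi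
    choose i hi using hr
    set κ : K → ZMod p := fun b => (i b : ZMod p) with hκ
    have hstep : ∀ b : K, ∀ t : ℕ, κ (y ^ t * b) = t + κ b := by
      intro b t
      have e : Quotient.mk st (y ^ t * b) = Quotient.mk st b :=
        Quotient.sound (MulAction.orbitRel_apply.2 ⟨⟨y ^ t, Subgroup.npow_mem_zpowers y t⟩, rfl⟩)
      have h1 := hi (y ^ t * b)
      conv_lhs at h1 => rw [hi b]
      rw [e, ← mul_assoc, ← zpow_natCast, ← zpow_add, mul_left_inj] at h1
      have h3 : ((p : ℕ) : ℤ) ∣ (i (y ^ (t : ℤ) * b) - ((t : ℤ) + i b)) := by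
        refine (Int.natCast_dvd_natCast.2 hy).trans ?_
        rw [orderOf_dvd_iff_zpow_eq_one, zpow_sub, h1, mul_inv_cancel]
      rw [← ZMod.intCast_zmod_eq_zero_iff_dvd, Int.cast_sub, Int.cast_add, sub_eq_zero] at h3
      simpa [hκ, zpow_natCast] using h3
    let Y : Matrix K K (loc hM) := Matrix.of fun a b => if κ b = 0 then R a b else 0
    have hconj : ∀ (g : K) (X : Matrix K K (loc hM)) (a b : K),
        (P g * X * P g⁻¹) a b = X (g⁻¹ * a) (g⁻¹ * b) := by
      intro g X a b
      rw [Matrix.mul_apply, Finset.sum_eq_single (g⁻¹ * b)]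
      · rw [Matrix.mul_apply, Finset.sum_eq_single (g⁻¹ * a)]
        · simp [P]
        · intro x _ hx
          simp only [P, MonoidHom.coe_mk, OneHom.coe_mk, Matrix.of_apply]
          rw [if_neg fun e => hx (by rw [← e, inv_mul_cancel_left]), zero_mul]
        · simp
      · intro x _ hx
        simp only [P, MonoidHom.coe_mk, OneHom.coe_mk, Matrix.of_apply]
        rw [if_neg fun e => hx e.symm, mul_zero]
      · simp
    have hinv : ∀ g : K, P g * P g⁻¹ = 1 := fun g => by rw [← map_mul, mul_inv_cancel, map_one]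
    let S : (Matrix K K (loc hM))ˣ :=
      ⟨P y, P y⁻¹, hinv y, by rw [← map_mul, inv_mul_cancel, map_one]⟩
    have hzero := Star.twisted_zero (p := p) (loc_sep hM)
      (Matrix.traceLinearMap K (loc hM) (loc hM)) (fun a b => Matrix.trace_mul_comm a b) S Y R hRR
      ?_ ?_
    · have : Matrix.trace (P y * R) = 0 := hzero
      have h2 := congrArg (fun z : loc hM => (z : ℂ)) this
      simp only [Matrix.trace, Matrix.diag, Matrix.mul_apply] at h2
      push_cast at h2
      rw [← h2]
      refine Finset.sum_congr rfl fun a _ => ?_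
      rw [Finset.sum_eq_single (y⁻¹ * a)]
      · simp [P, R, mul_assoc]
      · intro x _ hx
        simp only [P, MonoidHom.coe_mk, OneHom.coe_mk, Matrix.of_apply]
        rw [if_neg fun e => hx (by rw [← e, inv_mul_cancel_left])]
        simp
      · simp
    · show P y ^ p * Y = Y * P y ^ p
      rw [← map_pow]
      have hfix : P (y ^ p) * Y * P (y ^ p)⁻¹ = Y := by
        ext a b
        rw [hconj]
        simp only [Y, R, Matrix.of_apply]
        have h1 := hstep ((y ^ p)⁻¹ * b) p
        rw [mul_inv_cancel_left, ZMod.natCast_self, zero_add] at h1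
        rw [h1, show ((y ^ p)⁻¹ * b)⁻¹ * ((y ^ p)⁻¹ * a) = b⁻¹ * a by group]
      calc P (y ^ p) * Y = P (y ^ p) * Y * (P (y ^ p)⁻¹ * P (y ^ p)) := by
            rw [← map_mul P (y ^ p)⁻¹, inv_mul_cancel, map_one, mul_one]
        _ = _ := by rw [← mul_assoc, hfix]
    · show R = ∑ t ∈ Finset.range p, P y ^ t * Y * P y⁻¹ ^ t
      ext a b
      simp only [Matrix.sum_apply, ← map_pow, inv_pow, hconj]
      rw [Finset.sum_eq_single (κ b).val]
      · simp only [Y, R, Matrix.of_apply]
        have h1 := hstep ((y ^ (κ b).val)⁻¹ * b) (κ b).val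
        rw [mul_inv_cancel_left, ZMod.natCast_zmod_val, left_eq_add] at h1
        rw [if_pos h1,
          show ((y ^ (κ b).val)⁻¹ * b)⁻¹ * ((y ^ (κ b).val)⁻¹ * a) = b⁻¹ * a by group]
      · intro t ht hne
        simp only [Y, Matrix.of_apply]
        refine if_neg fun h => hne ?_
        have h1 := hstep ((y ^ t)⁻¹ * b) t
        rw [mul_inv_cancel_left, h, add_zero] at h1
        rw [h1, ZMod.val_natCast_of_lt (Finset.mem_range.1 ht)]
      · intro h
        exact absurd (Finset.mem_range.2 (ZMod.val_lt _)) h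
  have hmain : (Nat.card K : ℂ) * tv j F = 0 := by
    have e : (Nat.card K : ℂ) * tv j F = ∑ y : K, F y⁻¹ * ∑ a, (j.coeff (a⁻¹ * y⁻¹ * a) : ℂ) := by
      simp only [Finset.mul_sum]
      rw [Finset.sum_comm, Nat.card_eq_fintype_card, ← Finset.card_univ, Finset.card_eq_sum_ones,
        Nat.cast_sum, Nat.cast_one, Finset.sum_mul]
      refine Finset.sum_congr rfl fun a _ => ?_
      rw [one_mul, tv]
      refine (Fintype.sum_equiv ((Equiv.inv K).trans (MulAut.conj a⁻¹).toEquiv) _ _ fun y => ?_).symm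
      simp only [Equiv.trans_apply, Equiv.inv_apply, MulEquiv.toEquiv_eq_coe, EquivLike.coe_coe,
        MulAut.conj_apply, inv_inv]
      rw [mul_comm, show F (a⁻¹ * y⁻¹ * a) = F y⁻¹ by simpa using hF y⁻¹ a⁻¹]
    rw [e]
    refine Finset.sum_eq_zero fun y _ => ?_
    by_cases hy : p ∣ orderOf y
    · rw [htr y hy, mul_zero]
    · rw [hreg y⁻¹ (by rwa [orderOf_inv]), zero_mul]
  exact (mul_eq_zero.1 hmain).resolve_left (Nat.cast_ne_zero.2 Nat.card_pos.ne')

theorem tv_regular {j : MonoidAlgebra (loc hM) K} (hj : j * j = j) {F : K → ℂ}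
    (hF : IsClassFunction K F) :
    tv j F = ∑ g ∈ Finset.univ.filter (fun g : K => ¬ p ∣ orderOf g), (j.coeff g : ℂ) * F g := by
  classical
  have h := tv_singular hj (F := fun g => if p ∣ orderOf g then F g else 0)
    (fun a b => by simp only [conj_orderOf, hF a b]) fun g hg => if_neg hg
  have e : tv j F = ∑ g, ((j.coeff g : ℂ) * (if p ∣ orderOf g then F g else 0) +
      if ¬ p ∣ orderOf g then (j.coeff g : ℂ) * F g else 0) :=
    Finset.sum_congr rfl fun g _ => by split_ifs <;> simp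
  rw [tv] at h
  rw [e, Finset.sum_add_distrib, h, zero_add, ← Finset.sum_filter]

/-! ### transport along an injective homomorphism -/

variable {H : Type v} [Group H] [Fintype H]

theorem coeff_map_apply {R : Type*} [CommRing R] {ι : K →* H} (hι : Function.Injective ι)
    (x : MonoidAlgebra R K) (k : K) : (mapDomainRingHom R ι x).coeff (ι k) = x.coeff k :=
  Finsupp.mapDomain_apply hι x.coeff k

theorem coeff_map_off {R : Type*} [CommRing R] (ι : K →* H)
    (x : MonoidAlgebra R K) {h : H} (hh : ∀ k, ι k ≠ h) :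
    (mapDomainRingHom R ι x).coeff h = 0 :=
  Finsupp.mapDomain_of_notMem_range (f := ι) x.coeff h fun ⟨k, hk⟩ => hh k hk

theorem tv_map {ι : K →* H} (hι : Function.Injective ι) (j : MonoidAlgebra (loc hM) K)
    (F : H → ℂ) : tv (mapDomainRingHom (loc hM) ι j) F = tv j (fun k => F (ι k)) := by
  symm
  refine Finset.sum_bij_ne_zero (fun k _ _ => ι k) (fun k _ _ => Finset.mem_univ _)
    (fun a _ _ b _ _ h => hι h) (fun h _ hh => ?_) fun k _ _ => by
      rw [coeff_map_apply hι]
  by_cases hr : ∃ k, ι k = h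
  · obtain ⟨k, rfl⟩ := hr
    rw [coeff_map_apply hι] at hh
    exact ⟨k, Finset.mem_univ _, hh, rfl⟩
  · push Not at hr
    rw [coeff_map_off ι j hr] at hh
    simp at hh

/-! ### characters -/

/-- An irreducible character with values in the local ring. -/
noncomputable def locChar (hM : IsPModular p M) (χ : IrrCharacter K) (g : K) : loc hM :=
  ⟨(χ : K → ℂ) g, memRing_of_isIntegral hM (isIntegral_of_char (isCharacter_of_irr χ.2) g)⟩

theorem locChar_cls (hM : IsPModular p M) (χ : IrrCharacter K) (g h : K) :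
    locChar hM χ (h * g * h⁻¹) = locChar hM χ g := Subtype.ext (irr_isClassFun χ g h)

/-- Multiplying by a centralising group gives characters. -/
theorem tv_char {U : Type v} [Group U] {j : MonoidAlgebra (loc hM) K} (hj : j * j = j)
    (θ : U →* K) (hfix : ∀ u, cj (θ u) j = j) (χ : IrrCharacter K) :
    IsCharacter U (fun u => tv j (fun g => (χ : K → ℂ) (θ u * g))) := by
  obtain ⟨n, ρ, hρ⟩ := isCharacter_of_irr χ.2
  let ρA : MonoidAlgebra (loc hM) K →+* Module.End ℂ (Fin n → ℂ) :=
    ρ.asAlgebraHom.toRingHom.comp (mapRingHom K (loc hM).subtype)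
  have hρA : ∀ g a, ρA (single g a) = (a : ℂ) • ρ g := fun g a => by
    show ρ.asAlgebraHom (mapRingHom K (loc hM).subtype (single g a)) = _
    rw [show mapRingHom K (loc hM).subtype (single g a) = single g (a : ℂ) from map_single _ _ _,
      Representation.asAlgebraHom_single]
  have htr : ∀ z, LinearMap.trace ℂ _ (ρA z) = ((tau (locChar hM χ) z : loc hM) : ℂ) := by
    intro z
    induction z using MonoidAlgebra.induction_linear with
    | zero => simp
    | add a b ha hb => simp only [map_add, ha, hb, Subring.coe_add]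
    | single g a =>
      rw [hρA, map_smul, tau_single, smul_eq_mul, Subring.coe_mul]
      congr 1
      exact congrFun hρ g
  have hc : ∀ u : U, (ρ.comp θ) u * ρA j = ρA j * (ρ.comp θ) u := by
    intro u
    have e : (ρ.comp θ) u = ρA (single (θ u) 1) := by
      rw [hρA, Subring.coe_one, one_smul]; rfl
    rw [e, ← map_mul, ← map_mul, (cj_eq_iff _ _).1 (hfix u)]
  have := isCharacter_trace_idem (ρ.comp θ) (ρA j) (by rw [← map_mul, hj]) hc
  convert this using 1
  funext u
  have e : (ρ.comp θ) u = ρA (single (θ u) 1) := by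
    rw [hρA, Subring.coe_one, one_smul]; rfl
  rw [e, ← map_mul, htr, tau_single_mul]
  exact tv_congr fun g => rfl

theorem tv_nat {j : MonoidAlgebra (loc hM) K} (hj : j * j = j) (χ : IrrCharacter K) :
    ∃ n : ℕ, tv j (χ : K → ℂ) = n := by
  have h := tv_char hj (1 : PUnit.{u + 1} →* K) (fun u => cj_one_elem j) χ
  obtain ⟨n, hn⟩ := char_one_eq_natCast h
  exact ⟨n, hn ▸ tv_congr fun g => by simp⟩

/-! ### blocks -/

/-- The idempotent of a block with local coefficients. -/
noncomputable def blockE (hM : IsPModular p M) (b : Set (IrrCharacter K)) :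
    MonoidAlgebra (loc hM) K :=
  toO hM (blockCoeff b)

theorem coeff_blockE {b : Set (IrrCharacter K)} (hb : IsPBlock M b) (k : K) :
    (((blockE hM b).coeff k : loc hM) : ℂ) = blockCoeff b k := by
  show toC (toO hM (blockCoeff b)) k = _
  rw [toC_toO hM (memRing_blockCoeff hM hb)]

theorem blockPart_irr (b : Set (IrrCharacter K)) (ψ : IrrCharacter K) (y : K) :
    blockPart b (ψ : K → ℂ) y = ind b ψ * (ψ : K → ℂ) y := by
  classical
  rw [blockPart, finsum_mem_bset]
  simp only [fun a c => classInner_congr_inst (Fintype.ofFinite K) ‹Fintype K› a c]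
  by_cases h : ψ ∈ b
  · rw [Finset.sum_eq_single ψ (fun θ _ hθ => by
      rw [classInner_irr_ne ψ.2 θ.2 fun e => hθ (Subtype.ext e).symm, zero_mul])
      (fun h' => absurd (mem_bset.2 h) h'), classInner_irr_self ψ.2, ind_of_mem h]
  · rw [ind_of_notMem h, zero_mul]
    refine Finset.sum_eq_zero fun θ hθ => ?_
    rw [classInner_irr_ne ψ.2 θ.2 fun e => h (Subtype.ext e ▸ mem_bset.1 hθ), zero_mul]

theorem blockE_idem' {b : Set (IrrCharacter K)} (hb : IsPBlock M b) :
    blockE hM b * blockE hM b = blockE hM b :=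
  toC_inj (by rw [blockE, toC_mul, toC_toO hM (memRing_blockCoeff hM hb), conv_blockCoeff])

/-- An idempotent below a block sees the block part only. -/
theorem tv_block {b : Set (IrrCharacter K)} (hb : IsPBlock M b)
    {j : MonoidAlgebra (loc hM) K} (hje : j * blockE hM b = j) {Φ : K → ℂ}
    (hΦ : IsClassFunction K Φ) (y : K) :
    tv j (fun g => Φ (y * g)) = tv j (fun g => blockPart b Φ (y * g)) := by
  classical
  have e : ∀ g, (j.coeff g : ℂ) = ∑ h, (j.coeff h : ℂ) * blockCoeff b (h⁻¹ * g) := fun g => by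
    conv_lhs => rw [← hje, coeff_mul_sum]
    push_cast
    exact Finset.sum_congr rfl fun h _ => by rw [coeff_blockE hb]
  unfold tv
  conv_lhs => enter [2, g]; rw [e g, Finset.sum_mul]
  rw [Finset.sum_comm]
  refine Finset.sum_congr rfl fun h _ => ?_
  show _ = (j.coeff h : ℂ) * blockPart b Φ (y * h)
  rw [blockPart_eq_sum b hΦ (y * h), Finset.mul_sum]
  refine Fintype.sum_equiv (Equiv.mulLeft h⁻¹) _ _ fun g => ?_
  rw [Equiv.coe_mulLeft, mul_assoc, show Φ (h⁻¹ * g * (y * h)) = Φ (y * g) by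
    rw [← hΦ (h⁻¹ * g * (y * h)) h]
    rw [show h * (h⁻¹ * g * (y * h)) * h⁻¹ = g * y by group, ← hΦ (g * y) y]
    group]

theorem tv_off_block {b : Set (IrrCharacter K)} (hb : IsPBlock M b)
    {j : MonoidAlgebra (loc hM) K} (hje : j * blockE hM b = j) {ψ : IrrCharacter K} (hψ : ψ ∉ b)
    (y : K) : tv j (fun g => (ψ : K → ℂ) (y * g)) = 0 := by
  rw [tv_block hb hje (irr_isClassFun ψ) y]
  simp [tv, blockPart_irr, ind_of_notMem hψ]

/-- A block with one Brauer character: one multiplicity. -/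
theorem rank_one_mult {b : Set (IrrCharacter K)} (hb : IsPBlock M b) (hl : blockRank p b = 1)
    {j : MonoidAlgebra (loc hM) K} (hj : j * j = j) (hje : j * blockE hM b = j) :
    ∃ (d : IrrCharacter K → ℕ) (m : ℕ), (∀ χ ∈ b, 0 < d χ) ∧
      (∀ χ ∈ b, charDegree (χ : K → ℂ) = d χ * bdeg b) ∧
      ∑ χ ∈ bset b, d χ ^ 2 = p ^ blockDefect p b ∧
      (∃ χ ∈ b, ¬ p ∣ d χ) ∧
      ∀ θ : IrrCharacter K, tv j (θ : K → ℂ) = ind b θ * (d θ : ℂ) * (m : ℂ) := by
  classical
  obtain ⟨φ, d, n, hf, hφ1, hφ, hval, hdeg, hd0, hdn, hsq⟩ := single_block hM hb hl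
  choose N hN using fun θ : IrrCharacter K => tv_nat hj θ
  set μ : ℂ := ∑ g ∈ Finset.univ.filter (fun g : K => ¬ p ∣ orderOf g), (j.coeff g : ℂ) * φ g
    with hμ
  have hμθ : ∀ θ ∈ b, (N θ : ℂ) = (d θ : ℂ) * μ := fun θ hθ => by
    rw [← hN, tv_regular hj (irr_isClassFun θ), hμ, Finset.mul_sum]
    refine Finset.sum_congr rfl fun g hg => ?_
    rw [hval θ hθ g (Finset.mem_filter.1 hg).2]
    ring
  set z : ℤ := ∑ θ ∈ bset b, n θ * (N θ : ℤ) with hz
  have hμz : μ = (z : ℂ) := by
    have h1 := congrArg (fun t : ℤ => (t : ℂ) * μ) hdn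
    simp only [Int.cast_one, one_mul] at h1
    rw [← h1, hz]
    push_cast
    rw [Finset.sum_mul]
    refine Finset.sum_congr rfl fun θ hθ => ?_
    rw [hμθ θ (mem_bset.1 hθ)]
    ring
  obtain ⟨χ₀, hχ₀, hχ₀'⟩ : ∃ χ ∈ b, ¬ p ∣ d χ := by
    by_contra hall
    push Not at hall
    have : (p : ℤ) ∣ 1 := hdn ▸ Finset.dvd_sum fun χ hχ =>
      (Int.natCast_dvd_natCast.2 (hall χ (mem_bset.1 hχ))).mul_right _
    exact hM.1.ne_one (by simpa using Int.natCast_dvd_natCast.1 (by exact_mod_cast this : (p : ℤ) ∣ ((1 : ℕ) : ℤ)))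
  have hz0 : 0 ≤ z := by
    have h1 := hμθ χ₀ hχ₀
    rw [hμz] at h1
    have h2 : ((N χ₀ : ℕ) : ℤ) = (d χ₀ : ℤ) * z := by exact_mod_cast h1
    have h3 : (0 : ℤ) < d χ₀ := by exact_mod_cast hd0 χ₀ hχ₀
    nlinarith
  obtain ⟨m, hm⟩ := Int.eq_ofNat_of_zero_le hz0
  refine ⟨d, m, hd0, hdeg, hsq, ⟨χ₀, hχ₀, hχ₀'⟩, fun θ => ?_⟩
  by_cases h : θ ∈ b
  · rw [ind_of_mem h, one_mul, hN, hμθ θ h, hμz, hm, Int.cast_natCast]
  · have h1 := tv_off_block hb hje h 1
    simp only [one_mul] at h1
    rw [ind_of_notMem h, zero_mul, zero_mul, h1]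

/-- The coefficient at one. -/
theorem sum_deg_tv (j : MonoidAlgebra (loc hM) K) :
    ∑ θ : IrrCharacter K, (charDegree (θ : K → ℂ) : ℂ) * tv j (θ : K → ℂ) =
      (Nat.card K : ℂ) * (j.coeff 1 : ℂ) := by
  classical
  have e : ∀ (g : K) (θ : IrrCharacter K), (charDegree (θ : K → ℂ) : ℂ) *
      ((j.coeff g : ℂ) * (θ : K → ℂ) g) = (j.coeff g : ℂ) * ((θ : K → ℂ) g * (θ : K → ℂ) 1) :=
    fun g θ => by rw [irr_charDegree_cast]; ring
  simp only [tv, Finset.mul_sum]
  rw [Finset.sum_comm]
  simp only [e, ← Finset.mul_sum, sum_irr_apply_mul_degree]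
  rw [Finset.sum_eq_single (1 : K) (fun g _ hg => by rw [if_neg hg, mul_zero]) (by simp),
    if_pos rfl, mul_comm]

/-! ### sections -/

variable {ι : K →* H} {v : H}

theorem commute_range (hr : ∀ h : H, h * v = v * h ↔ ∃ k, ι k = h) (k : K) :
    Commute v (ι k) := ((hr (ι k)).2 ⟨k, rfl⟩).symm

theorem norm_expand {X N : Type*} [Fintype N] (R : Finset X) (c : X → ℂ) (f : N → X → ℂ) :
    ∑ ψ : N, (∑ g ∈ R, c g * f ψ g) * conj (∑ g ∈ R, c g * f ψ g) =
      ∑ g ∈ R, ∑ g' ∈ R, c g * conj (c g') * ∑ ψ : N, f ψ g * conj (f ψ g') := by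
  simp only [map_sum, map_mul, Finset.mul_sum, Finset.sum_mul]
  rw [Finset.sum_comm]
  conv_rhs => rw [Finset.sum_comm]
  refine Finset.sum_congr rfl fun g _ => ?_
  rw [Finset.sum_comm]
  refine Finset.sum_congr rfl fun g' _ => ?_
  exact Finset.sum_congr rfl fun ψ _ => by ring

/-- The squares on a section. -/
theorem norm_section (hι : Function.Injective ι) (hr : ∀ h : H, h * v = v * h ↔ ∃ k, ι k = h)
    (hv : ∃ a : ℕ, orderOf v = p ^ a) {j : MonoidAlgebra (loc hM) K} (hj : j * j = j) :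
    ∑ ψ : IrrCharacter H, tv j (fun k => (ψ : H → ℂ) (v * ι k)) *
        conj (tv j (fun k => (ψ : H → ℂ) (v * ι k))) =
      ∑ θ : IrrCharacter K, tv j (θ : K → ℂ) * conj (tv j (θ : K → ℂ)) := by
  classical
  set R := Finset.univ.filter (fun g : K => ¬ p ∣ orderOf g) with hR
  have hcl : ∀ ψ : IrrCharacter H, IsClassFunction K fun k => (ψ : H → ℂ) (v * ι k) := by
    intro ψ a b
    show (ψ : H → ℂ) (v * ι (b * a * b⁻¹)) = (ψ : H → ℂ) (v * ι a)
    rw [map_mul, map_mul, map_inv, ← irr_isClassFun ψ (v * ι a) (ι b)]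
    congr 1
    rw [← mul_assoc, ← mul_assoc, (commute_range hr b).eq]
    group
  simp only [tv_regular hj (hcl _), tv_regular hj (irr_isClassFun _)]
  rw [norm_expand R (fun g => (j.coeff g : ℂ)) (fun (ψ : IrrCharacter H) g => (ψ : H → ℂ) (v * ι g)),
    norm_expand R (fun g => (j.coeff g : ℂ)) (fun (θ : IrrCharacter K) g => (θ : K → ℂ) g)]
  refine Finset.sum_congr rfl fun g hg => Finset.sum_congr rfl fun g' hg' => ?_
  congr 1
  rw [sum_irr_mul_conj, sum_irr_mul_conj]
  have hvo : ∀ x, ¬ p ∣ orderOf x → ¬ p ∣ orderOf (ι x) := fun x hx => by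
    rwa [orderOf_injective ι hι]
  have hgr := (Finset.mem_filter.1 hg).2
  have hgr' := (Finset.mem_filter.1 hg').2
  have hsplit : ∀ t : H, ∀ x y : K, ¬ p ∣ orderOf x → ¬ p ∣ orderOf y →
      (t * (v * ι x) * t⁻¹ = v * ι y ↔ ∃ s, ι s = t ∧ s * x * s⁻¹ = y) := by
    intro t x y hx hy
    constructor
    · intro h
      have hc : Commute (t * v * t⁻¹) (t * ι x * t⁻¹) :=
        (commute_range hr x).map (MulAut.conj t).toMonoidHom
      obtain ⟨h1, h2⟩ := pPart_unique hM.1 hc (commute_range hr y)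
        (hv.imp fun a ha => by rw [conj_orderOf, ha]) hv
        (by rw [conj_orderOf]; exact hvo x hx) (hvo y hy) (by rw [← h]; group)
      obtain ⟨s, rfl⟩ := (hr t).1 (mul_inv_eq_iff_eq_mul.1 h1)
      exact ⟨s, rfl, hι (by rw [map_mul, map_mul, map_inv]; exact h2)⟩
    · rintro ⟨s, rfl, rfl⟩
      rw [map_mul, map_mul, map_inv, ← mul_assoc (ι s) v, ← (commute_range hr s).eq]
      group
  by_cases hc : IsConj g g'
  · obtain ⟨s, rfl⟩ := isConj_iff.1 hc
    rw [if_pos hc, if_pos (isConj_iff.2 ⟨ι s, (hsplit (ι s) g _ hgr hgr').2 ⟨s, rfl, rfl⟩⟩)]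
    congr 1
    refine Nat.card_congr
      { toFun := fun t => ⟨((hsplit (t : H) g g hgr hgr).1 (mul_inv_eq_iff_eq_mul.2
          (Subgroup.mem_centralizer_singleton_iff.1 t.2))).choose, ?_⟩
        invFun := fun s => ⟨ι s, ?_⟩
        left_inv := fun t => Subtype.ext ((hsplit (t : H) g g hgr hgr).1 (mul_inv_eq_iff_eq_mul.2
          (Subgroup.mem_centralizer_singleton_iff.1 t.2))).choose_spec.1
        right_inv := fun s => Subtype.ext (hι ((hsplit (ι (s : K)) g g hgr hgr).1
          (mul_inv_eq_iff_eq_mul.2 ?_)).choose_spec.1) }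
    · exact Subgroup.mem_centralizer_singleton_iff.2 (mul_inv_eq_iff_eq_mul.1
        ((hsplit (t : H) g g hgr hgr).1 (mul_inv_eq_iff_eq_mul.2
          (Subgroup.mem_centralizer_singleton_iff.1 t.2))).choose_spec.2)
    · exact Subgroup.mem_centralizer_singleton_iff.2 (mul_inv_eq_iff_eq_mul.1
        ((hsplit (ι (s : K)) g g hgr hgr).2 ⟨s, rfl,
          mul_inv_eq_iff_eq_mul.2 (Subgroup.mem_centralizer_singleton_iff.1 s.2)⟩))
    · exact mul_inv_eq_iff_eq_mul.1 ((hsplit (ι (s : K)) g g hgr hgr).2 ⟨s, rfl,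
        mul_inv_eq_iff_eq_mul.2 (Subgroup.mem_centralizer_singleton_iff.1 s.2)⟩)
  · rw [if_neg hc, if_neg]
    intro hcj
    obtain ⟨t, ht⟩ := isConj_iff.1 hcj
    obtain ⟨s, -, hs⟩ := (hsplit t g g' hgr hgr').1 ht
    exact hc (isConj_iff.2 ⟨s, hs⟩)

/-! ### lifting -/

/-- Values on a section depend on the residue only. -/
theorem tv_section (hι : Function.Injective ι) (hr : ∀ h : H, h * v = v * h ↔ ∃ k, ι k = h)
    (hv : ∃ a : ℕ, orderOf v = p ^ a) {j : MonoidAlgebra (loc hM) H} (hj : j * j = j)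
    (hjv : cj v j = j) {jK : MonoidAlgebra (loc hM) K} (hjK : jK * jK = jK)
    (hres : ∀ k, resHom hM (jK.coeff k) = resHom hM (j.coeff (ι k))) (ψ : IrrCharacter H) :
    tv j (fun g => (ψ : H → ℂ) (v * g)) = tv jK (fun k => (ψ : H → ℂ) (v * ι k)) := by
  classical
  letI := kField hM
  haveI : Fact p.Prime := ⟨hM.1⟩
  haveI : CharP (AlgInt ⧸ M) p := res_charP hM
  set i' := mapDomainRingHom (loc hM) ι jK with hi'
  have hl : Star.Local p v 1 := ⟨hv, by rw [orderOf_one]; exact hM.1.not_dvd_one, Commute.one_right v⟩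
  have hjf : j ∈ fixA (loc hM) (lset v 1) := mem_lfix.2 ⟨hjv, cj_one_elem j⟩
  have hi'f : i' ∈ fixA (loc hM) (lset v 1) := by
    refine mem_lfix.2 ⟨?_, cj_one_elem _⟩
    rw [cj_eq_iff, hi']
    clear hjK hres hi'
    clear_value i'
    induction jK using MonoidAlgebra.induction_linear with
    | zero => simp
    | add a b ha hb => rw [map_add, mul_add, add_mul, ha, hb]
    | single k a =>
      rw [mapDomainRingHom_apply, mapDomain_single, single_mul_single, single_mul_single,
        (commute_range hr k).eq, one_mul, mul_one]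
  have hbr : br (Subgroup.zpowers v) (red (locRed hM) j) =
      br (Subgroup.zpowers v) (red (locRed hM) i') := by
    refine ext_coeff fun g => ?_
    by_cases hg : g ∈ Subgroup.centralizer ((Subgroup.zpowers v : Subgroup H) : Set H)
    · obtain ⟨k, rfl⟩ := (hr g).1 (hg v (Subgroup.mem_zpowers v)).symm
      rw [coeff_br_mem _ _ hg, coeff_br_mem _ _ hg, coeff_red, coeff_red, hi',
        coeff_map_apply hι]
      exact (hres k).symm
    · rw [coeff_br_notMem _ _ hg, coeff_br_notMem _ _ hg]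
  have h := val_congr (locRed hM) (locChar_cls hM ψ) (loc_sep hM) hl hj hjf
    (show i' * i' = i' by rw [hi', ← map_mul, hjK]) hi'f hbr
  have h2 := congrArg (fun z : loc hM => (z : ℂ)) h
  simp only [Star.val, tau_single_mul, mul_one] at h2
  rw [show tv j (fun g => (ψ : H → ℂ) (v * g)) = _ from h2]
  rw [hi', tv_map hι]
  rfl

/-- Lifting an invariant idempotent below a block. -/
theorem exists_lift (hM : IsPModular p M) (S : Set K)
    {y : MonoidAlgebra (AlgInt ⧸ M) K} :
    letI := kField hM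
    ∀ (_ : y * y = y) (_ : ∀ s ∈ S, cj s y = y) (b : Set (IrrCharacter K)) (_ : IsPBlock M b)
      (_ : y * red (locRed hM) (blockE hM b) = y),
    ∃ j : MonoidAlgebra (loc hM) K, j * j = j ∧ (∀ s ∈ S, cj s j = j) ∧
      red (locRed hM) j = y ∧ j * blockE hM b = j := by
  intro hy hS b hb hye
  classical
  letI := kField hM
  set x : fixA (loc hM) S := ⟨lift0 (locRed hM) y, lift0_fix (locRed hM) (mem_fixA.2 hS)⟩
  have hx : redFix (locRed hM) S x * redFix (locRed hM) S x = redFix (locRed hM) S x :=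
    Subtype.ext (by
      show red (locRed hM) (lift0 (locRed hM) y) * red (locRed hM) (lift0 (locRed hM) y) =
        red (locRed hM) (lift0 (locRed hM) y)
      rw [red_lift0, hy])
  obtain ⟨e, w, hee, -, -, -, -, -, -, -, -, hid, -⟩ := lift_idem (locRed hM)
    (redFix (locRed hM) S) (fun a ha => Subtype.ext (red_algebraMap (locRed hM) ha))
    (isIntegral_fix x) (one_mul 1) (one_mul x) (mul_one x)
  have hj : (e : MonoidAlgebra (loc hM) K) * e = e := congrArg Subtype.val hee
  have hre : red (locRed hM) (e : MonoidAlgebra (loc hM) K) = y :=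
    (congrArg Subtype.val (hid hx)).trans (red_lift0 (locRed hM) y)
  refine ⟨e, hj, fun s hs => mem_fixA.1 e.2 s hs, hre, ?_⟩
  have hcent : ∀ z : MonoidAlgebra (loc hM) K, z * blockE hM b = blockE hM b * z := by
    intro z
    induction z using MonoidAlgebra.induction_linear with
    | zero => simp
    | add a c ha hc => rw [add_mul, mul_add, ha, hc]
    | single k a =>
      refine ext_coeff fun g => Subtype.ext ?_
      rw [coeff_single_mul_apply, coeff_mul_single_apply, Subring.coe_mul, Subring.coe_mul,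
        coeff_blockE hb, coeff_blockE hb, mul_comm]
      congr 1
      rw [← blockCoeff_isClassFunction b (k⁻¹ * g) k]
      group
  have hEE : blockE hM b * blockE hM b = blockE hM b := blockE_idem' hb
  refine (sub_eq_zero.1 (idem_eq_zero (locRed hM) ?_ ?_)).symm
  · set E := blockE hM b
    calc ((e : MonoidAlgebra (loc hM) K) - e * E) * (e - e * E)
        = (e : MonoidAlgebra (loc hM) K) * e - e * e * E - e * (E * e) + e * (E * e) * E := by
          noncomm_ring
      _ = e - e * E := by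
        rw [← hcent e, hj, ← mul_assoc, hj, mul_assoc (e : MonoidAlgebra (loc hM) K) E E, hEE]
        abel
  · rw [map_sub, map_mul, hre, hye, sub_self]

end CfsgLib.Blocks.AbFree
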