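import Cfsg.Agent.Lib.Blocks.AbFree.Point
import Cfsg.Agent.Lib.Blocks.AbFree.Glue
import Cfsg.Agent.Lib.Blocks.AbelianRankOne
import Cfsg.Agent.Lib.Blocks.CyclicArith

/-!
# The multiplicities of a source idempotent and their signs
-/

namespace CfsgLib.Blocks.AbFree

open Cfsg CfsgLib.CharTheory MonoidAlgebra Star
open scoped ComplexConjugate

set_option linter.unusedVariables false
set_option linter.unusedSimpArgs false
set_option linter.style.haveILetI false
set_option linter.unusedSectionVars false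

universe u v

section Arith

variable {A : Type u} [CommGroup A] [Fintype A]

/-- Nonzero algebraic integers with square sum equal to their number at all conjugates are units
of absolute value one. -/
theorem norm_eq_of_sum {ι : Type v} (s : Finset ι) (F : ι → A → ℂ)
    (hF : ∀ i ∈ s, IsCharacter A (F i)) (x : A) {m : ℕ} (hm : 0 < m)
    (hint : ∀ i ∈ s, IsIntegral ℤ (F i x / (m : ℂ))) (hne : ∀ i ∈ s, F i x ≠ 0)
    (hsum : ∀ j : ℕ, j.Coprime (Nat.card A) →
      ∑ i ∈ s, F i (x ^ j) * conj (F i (x ^ j)) = (m : ℂ) ^ 2 * (s.card : ℂ)) :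
    ∀ i ∈ s, F i x * conj (F i x) = (m : ℂ) ^ 2 := by
  classical
  set n := Nat.card A with hn
  have hn0 : n ≠ 0 := Nat.card_pos.ne'
  haveI : NeZero n := ⟨hn0⟩
  have hm0 : (m : ℂ) ≠ 0 := Nat.cast_ne_zero.2 hm.ne'
  let al : ι → rootField n := fun i =>
    if hi : i ∈ s then (⟨F i x, char_mem_rootField (hF i hi) x⟩ : rootField n) / (m : rootField n)
    else 0
  have hal : ∀ i ∈ s, ((al i : rootField n) : ℂ) = F i x / (m : ℂ) := fun i hi => by
    show (rootField n).val (al i) = _
    simp only [al, dif_pos hi, map_div₀, map_natCast]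
    rfl
  have hσal : ∀ σ : rootField n →ₐ[ℚ] ℂ, ∃ j : ℕ, j.Coprime n ∧
      ∀ i ∈ s, σ (al i) = F i (x ^ j) / (m : ℂ) := fun σ => by
    obtain ⟨j, hj, hσ⟩ := exists_pow_of_galois_hom hn0 σ
    refine ⟨j, hj, fun i hi => ?_⟩
    simp only [al, dif_pos hi, map_div₀, map_natCast]
    rw [galois_apply_char (hF i hi) x σ hσ]
  have htot : ∀ σ : rootField n →ₐ[ℚ] ℂ, ∑ i ∈ s, Complex.normSq (σ (al i)) = (s.card : ℝ) := by
    intro σ
    obtain ⟨j, hj, h1⟩ := hσal σ
    have : ((∑ i ∈ s, Complex.normSq (σ (al i)) : ℝ) : ℂ) = ((s.card : ℝ) : ℂ) := by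
      push_cast
      rw [Finset.sum_congr rfl fun i hi => show (Complex.normSq (σ (al i)) : ℂ) =
          F i (x ^ j) * conj (F i (x ^ j)) / (m : ℂ) ^ 2 by
        rw [← Complex.mul_conj, h1 i hi, map_div₀, Complex.conj_natCast, div_mul_div_comm, sq],
        ← Finset.sum_div, hsum j hj, mul_div_cancel_left₀ _ (pow_ne_zero 2 hm0)]
    exact_mod_cast this
  have hge : ∀ i ∈ s, (Fintype.card (rootField n →ₐ[ℚ] ℂ) : ℝ) ≤
      ∑ σ : rootField n →ₐ[ℚ] ℂ, Complex.normSq (σ (al i)) := fun i hi =>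
    card_le_sum_normSq hn0 (al i) (hal i hi ▸ hint i hi) fun h0 => by
      have := hal i hi
      rw [h0] at this
      exact div_ne_zero (hne i hi) hm0 this.symm
  have heq := (Finset.sum_eq_sum_iff_of_le hge).1 (by
    rw [Finset.sum_comm, Finset.sum_congr rfl fun σ _ => htot σ, Finset.sum_const, Finset.sum_const,
      Finset.card_univ, nsmul_eq_mul, nsmul_eq_mul, mul_comm])
  intro i hi
  have h1 := normSq_eq_one_of_le (al i) (hal i hi ▸ hint i hi) (fun h0 => by
    have := hal i hi
    rw [h0] at this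
    exact div_ne_zero (hne i hi) hm0 this.symm) (heq i hi).symm.le (rootField n).val
  change Complex.normSq ((al i : rootField n) : ℂ) = 1 at h1
  rw [hal i hi] at h1
  have h2 : (F i x / (m : ℂ)) * conj (F i x / (m : ℂ)) = 1 := by
    rw [Complex.mul_conj, h1, Complex.ofReal_one]
  rw [map_div₀, Complex.conj_natCast, div_mul_div_comm, ← sq,
    div_eq_one_iff_eq (pow_ne_zero 2 hm0)] at h2
  exact h2

end Arith

section Section'

variable {p : ℕ} {M : Ideal AlgInt} {hM : IsPModular p M} {K H : Type u} [Group K] [Fintype K]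
  [Group H] [Fintype H] {ι : K →* H} {x : H}

/-- The value of an idempotent on a section whose local block has one Brauer character. -/
theorem section_value (hι : Function.Injective ι) (hr : ∀ h : H, h * x = x * h ↔ ∃ k, ι k = h)
    (hx : ∃ a : ℕ, orderOf x = p ^ a) {j : MonoidAlgebra (loc hM) H} (hj : j * j = j)
    (hjx : cj x j = j) {jK : MonoidAlgebra (loc hM) K} (hjK : jK * jK = jK)
    (hres : ∀ k, resHom hM (jK.coeff k) = resHom hM (j.coeff (ι k)))
    {b : Set (IrrCharacter K)} {m : ℕ}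
    (hm : ∀ θ : IrrCharacter K, tv jK (θ : K → ℂ) = ind b θ * (m : ℂ)) (ψ : IrrCharacter H) :
    tv j (fun g => (ψ : H → ℂ) (x * g)) =
      (m : ℂ) * ∑ θ ∈ bset b, classInner (fun k => (ψ : H → ℂ) (x * ι k)) (θ : K → ℂ) := by
  have hcl : IsClassFunction K fun k => (ψ : H → ℂ) (x * ι k) := by
    intro a b
    show (ψ : H → ℂ) (x * ι (b * a * b⁻¹)) = (ψ : H → ℂ) (x * ι a)
    rw [map_mul, map_mul, map_inv, ← irr_isClassFun ψ (x * ι a) (ι b),
      ← mul_assoc (ι b) x, ← (commute_range hr b).eq]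
    group
  rw [tv_section hι hr hx hj hjx hjK hres ψ, tv_class hcl, Finset.mul_sum, ← sum_ind_mul]
  exact Finset.sum_congr rfl fun θ _ => by rw [hm θ]; ring

/-- Shifting by a central element keeps the inner products integral. -/
theorem inner_shift_integral {z : K} (hz : z ∈ Subgroup.center K) (hzx : ι z = x)
    (ψ : IrrCharacter H) (θ : IrrCharacter K) :
    IsIntegral ℤ (classInner (fun k => (ψ : H → ℂ) (x * ι k)) (θ : K → ℂ)) := by
  classical
  have hc : IsCharacter K fun k => (ψ : H → ℂ) (ι k) :=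
    isCharacter_comp (isCharacter_of_irr ψ.2) ι
  choose n hn using fun η : IrrCharacter K => classInner_char_nat hc (isCharacter_of_irr η.2)
  have hexp := eq_sum_irr (isClassFunction_char hc)
  have e : (fun k => (ψ : H → ℂ) (x * ι k)) =
      ∑ η : IrrCharacter K, ((n η : ℂ) * ((η : K → ℂ) z / (η : K → ℂ) 1)) • (η : K → ℂ) := by
    funext k
    simp only [Finset.sum_apply, Pi.smul_apply, smul_eq_mul]
    have h1 := congrFun hexp (z * k)
    simp only [Finset.sum_apply, Pi.smul_apply, smul_eq_mul, map_mul, hzx, hn] at h1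
    refine h1.trans (Finset.sum_congr rfl fun η _ => ?_)
    rw [central_value_mul hz]
    ring
  rw [e, classInner_sum_left, Finset.sum_eq_single θ]
  · rw [classInner_smul_left, classInner_irr_self θ.2, mul_one]
    refine (isIntegral_natCast' _).mul (IsIntegral.of_pow (orderOf_pos z) ?_)
    rw [← central_pow_value hz θ, pow_orderOf_eq_one, div_self (irr_one_ne_zero θ)]
    exact isIntegral_one
  · intro η _ hne
    rw [classInner_smul_left, classInner_irr_ne η.2 θ.2 (fun h => hne (Subtype.ext h)), mul_zero]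
  · exact fun h => absurd (Finset.mem_univ θ) h

end Section'

variable {p : ℕ} {M : Ideal AlgInt} {G : Type u} [Group G] [Fintype G]
  {B : Set (IrrCharacter G)} {P : Subgroup G}
  {c : Set (IrrCharacter (Subgroup.centralizer (P : Set G)))} {a : ℕ}

/-- The hypothesis of a free action. -/
def FreeStab (P : Subgroup G) (c : Set (IrrCharacter (Subgroup.centralizer (P : Set G)))) : Prop :=
  ∀ t ∈ pairStab P c, ∀ x ∈ P, x ≠ 1 → t * x * t⁻¹ = x → t ∈ Subgroup.centralizer (P : Set G)

theorem below_rank (h : AbData p M B P c a) (hfree : FreeStab P c) {R : Subgroup G} (hR : R ≤ P)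
    (hR1 : R ≠ ⊥) [Fintype (Subgroup.centralizer (R : Set G))] :
    blockRank p (belowIdx p M P c R).2 = 1 ∧ Nat.card (belowIdx p M P c R).2 = p ^ a := by
  obtain ⟨f, hstep, -, -, x, hx, hup, hmax'⟩ := exists_local_abelian h.mod h.max h.comm hR
  obtain ⟨hcard, hab', hst, hcent⟩ := local_abelian_props hup h.comm
  obtain ⟨y, hy, hy1⟩ : ∃ y ∈ R, y ≠ 1 := by
    by_contra hno
    push Not at hno
    exact hR1 ((Subgroup.eq_bot_iff_forall R).2 hno)
  have htriv : pairStab x.1 x.2 ≤
      Subgroup.centralizer (x.1 : Set (Subgroup.centralizer (R : Set G))) := fun z hz =>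
    (hcent z).1 (hfree _ (hst z hz) y (hR hy) hy1 (by
      rw [← z.2 y hy, mul_inv_cancel_right]))
  have e : (⟨R, f⟩ : BrauerPairIdx G) = belowIdx p M P c R :=
    h.below_eq hstep.1.2 (Relation.ReflTransGen.single hstep)
  have e' : f = (belowIdx p M P c R).2 := eq_of_heq (Sigma.mk.inj_iff.1 e).2
  obtain ⟨hl, hk⟩ := rank_one_of_abelian_triv h.mod hmax' hab' htriv
  rw [hcard, h.card] at hk
  subst e'
  exact ⟨hl, hk⟩

/-- The idempotent of the centralizer of a subgroup of `P`, with its multiplicity. -/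
theorem exists_local (h : AbData p M B P c a) (hfree : FreeStab P c)
    {i : MonoidAlgebra (loc h.mod) G} (hi : i * i = i) (hif : ∀ s ∈ (P : Set G), cj s i = i)
    (hi1 : resHom h.mod (i.coeff 1) ≠ 0)
    (hiQ : ∀ Q ≤ P, letI := kField h.mod
        br Q (red (locRed h.mod) i) * red (locRed h.mod) (pairE h.mod (belowIdx p M P c Q)) =
          br Q (red (locRed h.mod) i))
    {R : Subgroup G} (hR : R ≤ P) (hR1 : R ≠ ⊥) [Fintype (Subgroup.centralizer (R : Set G))] :
    ∃ (j : MonoidAlgebra (loc h.mod) (Subgroup.centralizer (R : Set G))) (m : ℕ),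
      j * j = j ∧ (∀ x : Subgroup.centralizer (R : Set G), (x : G) ∈ P → cj x j = j) ∧
      (∀ k, resHom h.mod (j.coeff k) = resHom h.mod (i.coeff (k : G))) ∧
      j * blockE h.mod (belowIdx p M P c R).2 = j ∧ ¬ p ∣ m ∧
      (∀ χ ∈ (belowIdx p M P c R).2,
        charDegree (χ : Subgroup.centralizer (R : Set G) → ℂ) = bdeg (belowIdx p M P c R).2) ∧
      ∀ θ : IrrCharacter (Subgroup.centralizer (R : Set G)),
        tv j (θ : Subgroup.centralizer (R : Set G) → ℂ) =
          ind (belowIdx p M P c R).2 θ * (m : ℂ) := by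
  classical
  have hM := h.mod
  letI := kField hM
  haveI : Fact p.Prime := ⟨hM.1⟩
  haveI : CharP (AlgInt ⧸ M) p := res_charP hM
  set b : Set (IrrCharacter (Subgroup.centralizer (R : Set G))) := (belowIdx p M P c R).2 with hbdef
  have hb : IsPBlock M b := (h.below_spec hR).1
  set ι := (Subgroup.centralizer (R : Set G)).subtype with hι
  have hιi : Function.Injective ι := Subtype.coe_injective
  set y : MonoidAlgebra (AlgInt ⧸ M) (Subgroup.centralizer (R : Set G)) := ofFn fun k => resHom hM (i.coeff (k : G)) with hy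
  have hmap : mapDomainRingHom (AlgInt ⧸ M) ι y = br R (red (locRed hM) i) := by
    refine ext_coeff fun g => ?_
    by_cases hg : g ∈ (Subgroup.centralizer (R : Set G))
    · rw [coeff_br_mem _ _ hg, show g = ι ⟨g, hg⟩ from rfl, coeff_map_apply hιi, hy, coeff_ofFn]
      exact (coeff_red (locRed hM) i g).symm
    · rw [coeff_br_notMem _ _ hg, coeff_map_off ι y fun k hk => hg (by rw [← hk]; exact k.2)]
  have hinj : Function.Injective (mapDomainRingHom (AlgInt ⧸ M) ι) := fun z w hzw => by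
    refine ext_coeff fun k => ?_
    rw [← coeff_map_apply hιi z k, hzw, coeff_map_apply hιi]
  have hif' : red (locRed hM) i ∈ fixA (AlgInt ⧸ M) (R : Set G) :=
    red_fix _ (mem_fixA.2 fun s hs => hif s (hR hs))
  have hE : mapDomainRingHom (AlgInt ⧸ M) ι (red (locRed hM) (blockE hM b)) =
      red (locRed hM) (pairE hM (belowIdx p M P c R)) := by
    refine ext_coeff fun g => ?_
    by_cases hg : g ∈ (Subgroup.centralizer (R : Set G))
    · rw [show g = ι ⟨g, hg⟩ from rfl, coeff_map_apply hιi, coeff_red, coeff_red]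
      congr 1
      refine Subtype.ext ?_
      rw [coeff_blockE hb]
      have := congrFun (toC_pairE hM (a := belowIdx p M P c R) hb) g
      rw [subgroupBlockCoeff_eq] at this
      exact (this.trans (sext_coe (Subgroup.centralizer (R : Set G)) (blockCoeff b) ⟨g, hg⟩)).symm
    · rw [coeff_map_off ι _ fun k hk => hg (by rw [← hk]; exact k.2), coeff_red,
        pairE_supp hM hb hg, map_zero]
  obtain ⟨j, hj, hjfix, hjred, hjE⟩ := exists_lift hM {x : (Subgroup.centralizer (R : Set G)) | (x : G) ∈ P}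
    (hinj (by rw [map_mul, hmap, ← br_mul (h.isP.to_le hR) hif' hif', ← map_mul, hi]))
    (fun x hx => ext_coeff fun k => by
      rw [coeff_cj, hy, coeff_ofFn, coeff_ofFn]
      conv_rhs => rw [← hif x hx, coeff_cj]
      rfl)
    b hb (hinj (by rw [map_mul, hE, hmap]; exact hiQ R hR))
  have hres : ∀ k, resHom hM (j.coeff k) = resHom hM (i.coeff (k : G)) := fun k => by
    have e := congrArg (fun z => z.coeff k) hjred
    rwa [coeff_red, hy, coeff_ofFn] at e
  obtain ⟨hl, hk⟩ := below_rank h hfree hR hR1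
  obtain ⟨d, m, hd0, hdeg, hsq, -, htv⟩ := rank_one_mult hb hl hj hjE
  rw [show blockDefect p b = a from h.defect_below hR] at hsq
  have hd1 : ∀ χ ∈ b, d χ = 1 := by
    intro χ hχ
    by_contra hne
    have hlt : ∑ _χ ∈ bset b, 1 < ∑ χ ∈ bset b, d χ ^ 2 :=
      Finset.sum_lt_sum (fun θ hθ => Nat.one_le_pow _ _ (hd0 θ (mem_bset.1 hθ)))
        ⟨χ, mem_bset.2 hχ, Nat.one_lt_pow two_ne_zero (by have := hd0 χ hχ; omega)⟩
    rw [Finset.sum_const, smul_eq_mul, mul_one, ← card_bset' b, hk, hsq] at hlt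
    exact lt_irrefl _ hlt
  have hdegb : ∀ χ ∈ b, charDegree (χ : (Subgroup.centralizer (R : Set G)) → ℂ) = bdeg b := fun χ hχ => by
    rw [hdeg χ hχ, hd1 χ hχ, one_mul]
  have htv' : ∀ θ : IrrCharacter (Subgroup.centralizer (R : Set G)), tv j (θ : (Subgroup.centralizer (R : Set G)) → ℂ) = ind b θ * (m : ℂ) := fun θ => by
    by_cases hθ : θ ∈ b
    · rw [htv, hd1 θ hθ, Nat.cast_one, mul_one]
    · rw [htv, ind_of_notMem hθ]; simp
  refine ⟨j, m, hj, fun x hx => hjfix x hx, hres, hjE, fun hpm => ?_, hdegb, htv'⟩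
  have hsum := sum_deg_tv j
  simp only [htv', ← mul_assoc, mul_comm _ (ind b _)] at hsum
  rw [Finset.sum_congr rfl fun θ _ => mul_assoc (ind b θ) _ _, sum_ind_mul,
    Finset.sum_congr rfl fun θ hθ => by rw [hdegb θ (mem_bset.1 hθ)], Finset.sum_const,
    ← card_bset' b, hk, nsmul_eq_mul] at hsum
  set κ := (Nat.card (Subgroup.centralizer (R : Set G))).factorization p with hκ
  obtain ⟨χ, hχ⟩ := block_nonempty hM hb
  have hdvd : p ^ κ ∣ p ^ a * bdeg b := by
    have h1 : minDv p b ≤ (bdeg b).factorization p := by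
      rw [← hdegb χ hχ]; exact minDv_le hχ
    have h2 : κ - minDv p b = a := h.defect_below hR
    refine (Nat.pow_dvd_pow p (show κ ≤ a + (bdeg b).factorization p by omega)).trans ?_
    rw [pow_add]
    exact Nat.mul_dvd_mul_left _ (Nat.ordProj_dvd _ _)
  obtain ⟨t, ht⟩ := hdvd
  obtain ⟨q, rfl⟩ := hpm
  have hcard : Nat.card (Subgroup.centralizer (R : Set G)) = p ^ κ * (Nat.card (Subgroup.centralizer (R : Set G)) / p ^ κ) := (Nat.ordProj_mul_ordCompl_eq_self _ p).symm
  have hu : ¬ p ∣ Nat.card (Subgroup.centralizer (R : Set G)) / p ^ κ := Nat.not_dvd_ordCompl hM.1 Nat.card_pos.ne'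
  have e : ((Nat.card (Subgroup.centralizer (R : Set G)) / p ^ κ : ℕ) : loc hM) * j.coeff 1 = ((p * (q * t) : ℕ) : loc hM) := by
    refine Subtype.ext ?_
    refine mul_left_cancel₀ (pow_ne_zero κ (Nat.cast_ne_zero.2 hM.1.ne_zero) : (p : ℂ) ^ κ ≠ 0) ?_
    push_cast
    rw [← mul_assoc, ← Nat.cast_pow, ← Nat.cast_mul, ← hcard, ← hsum]
    have ht' := congrArg (fun z : ℕ => (z : ℂ)) ht
    push_cast at ht' ⊢
    linear_combination ((p : ℂ) * (q : ℂ)) * ht'
  have e2 := congrArg (resHom hM) e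
  rw [map_mul, map_natCast, map_natCast, Nat.cast_mul p, CharP.cast_eq_zero (AlgInt ⧸ M) p, zero_mul,
    mul_eq_zero] at e2
  rcases e2 with e2 | e2
  · exact hu ((CharP.cast_eq_zero_iff (AlgInt ⧸ M) p _).1 e2)
  · exact hi1 (by rw [← Subgroup.coe_one (Subgroup.centralizer (R : Set G)), ← hres]; exact e2)

end CfsgLib.Blocks.AbFree
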