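import Cfsg.Agent.Lib.Blocks.AbFree.Count

/-!
# The shape of the columns and the counts
-/

namespace CfsgLib.Blocks.AbFree

open Cfsg CfsgLib.CharTheory
open scoped ComplexConjugate

set_option linter.unusedVariables false
set_option linter.unusedSimpArgs false
set_option linter.style.haveILetI false
set_option linter.unusedSectionVars false

universe u v

variable {p : ℕ} {M : Ideal AlgInt} {A : Type u} [CommGroup A] [Fintype A]
  {hM : IsPModular p M} {E : Subgroup (MulAut A)} [Fintype E] {I : Type v} {B : Finset I}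
  {f : I → A → ℂ} {w : I → ℤ}

theorem card_orbits (hfree : ∀ β ∈ E, ∀ v : A, β v = v → v ≠ 1 → β = 1)
    [Fintype (Quotient (orbRel E))] :
    Fintype.card (Quotient (orbRel E)) * Nat.card E = Nat.card A - 1 := by
  classical
  haveI := Fintype.ofFinite (A →* ℂˣ)
  have hfib : ∀ O : Quotient (orbRel E),
      (Finset.univ.filter fun μ : {μ : A →* ℂˣ // μ ≠ 1} => Quotient.mk _ μ = O).card =
        Nat.card E := by
    intro O
    obtain ⟨μ, rfl⟩ := Quotient.exists_rep O
    have hne : ∀ β : E, μ.1.comp (β : MulAut A).toMonoidHom ≠ 1 := fun β e => μ.2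
      (MonoidHom.ext fun v => by
        have := DFunLike.congr_fun e ((β : MulAut A)⁻¹ v)
        simp only [MonoidHom.comp_apply, MulEquiv.coe_toMonoidHom] at this
        rwa [show (β : MulAut A) ((β : MulAut A)⁻¹ v) = v from
          (β : MulAut A).apply_symm_apply v] at this)
    rw [Nat.card_eq_fintype_card, ← Finset.card_univ]
    symm
    refine Finset.card_bij
      (fun β _ => (⟨μ.1.comp (β : MulAut A).toMonoidHom, hne β⟩ : {μ : A →* ℂˣ // μ ≠ 1}))
      (fun β _ => ?_) (fun β _ γ _ e => free_hom hfree μ.2 (congrArg Subtype.val e))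
      (fun ν hν => ?_)
    · refine Finset.mem_filter.2 ⟨Finset.mem_univ _, (Quotient.sound ?_).symm⟩
      exact ⟨β, β.2, rfl⟩
    · obtain ⟨β, hβ, e⟩ := Quotient.exact (Finset.mem_filter.1 hν).2.symm
      exact ⟨⟨β, hβ⟩, Finset.mem_univ _, Subtype.ext e⟩
  have h1 : Fintype.card {μ : A →* ℂˣ // μ ≠ 1} = Nat.card A - 1 := by
    rw [Fintype.card_subtype_compl, Fintype.card_subtype_eq, ← Nat.card_eq_fintype_card,
      CommGroup.card_monoidHom_of_hasEnoughRootsOfUnity]
  rw [← h1, ← Finset.card_univ (α := {μ : A →* ℂˣ // μ ≠ 1}),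
    Finset.card_eq_sum_card_fiberwise (f := Quotient.mk (orbRel E))
      (t := (Finset.univ : Finset (Quotient (orbRel E)))) fun _ _ => Finset.mem_coe.2 (Finset.mem_univ _),
    Finset.sum_congr rfl fun O _ => hfib O, Finset.sum_const, Finset.card_univ, smul_eq_mul]

/-- The coordinates have the required inner products. -/
theorem Cols.coord_gram (h : Cols hM E B f w) {x : I → (A →* ℂˣ) → ℤ}
    (hx : ∀ χ μ, (x χ μ : ℂ) * ((Nat.card E : ℂ) * (Nat.card A : ℂ)) =
      ∑ v : A, orbSum E μ v * f χ v)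
    (μ ν : {μ : A →* ℂˣ // μ ≠ 1}) [Decidable ((orbRel E).r μ ν)] :
    ∑ χ ∈ B, x χ μ.1 * x χ ν.1 = (if (orbRel E).r μ ν then 1 else 0) + (Nat.card E : ℤ) := by
  classical
  set e : ℂ := (Nat.card E : ℂ) with he
  set n : ℂ := (Nat.card A : ℂ) with hn
  have hne : e * n ≠ 0 := mul_ne_zero (Nat.cast_ne_zero.2 Nat.card_pos.ne')
    (Nat.cast_ne_zero.2 Nat.card_pos.ne')
  have hin : ∀ v, ∑ w : A, conj (orbSum E ν.1 w) * (if v = 1 ∨ w = 1 then 0 else
      ∑ χ ∈ B, f χ v * conj (f χ w)) = if v = 1 then 0 else e * n * conj (orbSum E ν.1 v) := by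
    intro v
    split_ifs with hv
    · simp [hv]
    · rw [Finset.sum_congr rfl fun w _ => show conj (orbSum E ν.1 w) * (if v = 1 ∨ w = 1 then 0 else
          ∑ χ ∈ B, f χ v * conj (f χ w)) =
          if ∃ β ∈ E, β v = w then n * conj (orbSum E ν.1 v) else 0 by
        by_cases hw : w = 1
        · rw [if_pos (Or.inr hw), mul_zero, if_neg]
          rintro ⟨β, -, hb⟩
          exact hv (β.injective (by rw [hb, hw, map_one]))
        · rw [if_neg (by tauto), h.gram v w hv hw]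
          split_ifs with hr
          · obtain ⟨β, hβ, rfl⟩ := hr
            rw [orbSum_inv ν.1 hβ, mul_comm]
          · rw [mul_zero], ← Finset.sum_filter, Finset.sum_const, nsmul_eq_mul, ← mul_assoc]
      have hcard : (Finset.univ.filter fun w => ∃ β ∈ E, β v = w).card = Nat.card E := by
        rw [Nat.card_eq_fintype_card, ← Finset.card_univ]
        symm
        refine Finset.card_bij (fun β _ => (β : MulAut A) v)
          (fun β _ => Finset.mem_filter.2 ⟨Finset.mem_univ _, β, β.2, rfl⟩) (fun β _ γ _ e => ?_)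
          (fun w hw => ?_)
        · have := h.free _ (E.mul_mem (E.inv_mem γ.2) β.2) v (by
            show (γ : MulAut A)⁻¹ ((β : MulAut A) v) = v
            rw [e]; exact (γ : MulAut A).symm_apply_apply v) hv
          exact Subtype.ext (inv_mul_eq_one.1 this).symm
        · obtain ⟨β, hβ, e⟩ := (Finset.mem_filter.1 hw).2
          exact ⟨⟨β, hβ⟩, Finset.mem_univ _, e⟩
      rw [hcard]
  have key : (∑ χ ∈ B, ((x χ μ.1 : ℂ) * (e * n)) * ((x χ ν.1 : ℂ) * (e * n))) =
      e * n * ∑ v : A, orbSum E μ.1 v * conj (orbSum E ν.1 v) := by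
    have hreal : ∀ χ, (x χ ν.1 : ℂ) * (e * n) =
        ∑ w : A, conj (orbSum E ν.1 w) * conj (f χ w) := fun χ => by
      have := congrArg (starRingEnd ℂ) (hx χ ν.1)
      simp only [he, hn, map_mul, map_sum, map_intCast, Complex.conj_natCast] at this ⊢
      exact this
    rw [Finset.sum_congr rfl fun χ _ => by rw [hx χ μ.1, hreal χ, Finset.sum_mul_sum],
      Finset.sum_comm]
    rw [Finset.mul_sum]
    refine Finset.sum_congr rfl fun v _ => ?_
    rw [Finset.sum_comm]
    have hv' : e * n * (orbSum E μ.1 v * conj (orbSum E ν.1 v)) =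
        orbSum E μ.1 v * (if v = 1 then 0 else e * n * conj (orbSum E ν.1 v)) := by
      by_cases hv : v = 1
      · rw [if_pos hv, hv, orbSum_one]; ring
      · rw [if_neg hv]; ring
    rw [hv', ← hin v, Finset.mul_sum]
    refine Finset.sum_congr rfl fun w _ => ?_
    by_cases hz : v = 1 ∨ w = 1
    · rw [if_pos hz, mul_zero, mul_zero]
      rcases hz with rfl | rfl <;> simp [orbSum_one]
    · rw [if_neg hz, Finset.mul_sum, Finset.mul_sum]
      exact Finset.sum_congr rfl fun χ _ => by ring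
  rw [sum_pairs h.free] at key
  have key2 : ((∑ χ ∈ B, x χ μ.1 * x χ ν.1 : ℤ) : ℂ) =
      (((if (orbRel E).r μ ν then 1 else 0) + (Nat.card E : ℤ) : ℤ) : ℂ) := by
    refine mul_right_cancel₀ (mul_ne_zero hne hne) ?_
    push_cast
    rw [Finset.sum_mul, Finset.sum_congr rfl fun χ _ => show
      (x χ μ.1 : ℂ) * (x χ ν.1 : ℂ) * (e * n * (e * n)) =
        ((x χ μ.1 : ℂ) * (e * n)) * ((x χ ν.1 : ℂ) * (e * n)) by ring, key]
    ring
  exact_mod_cast key2

theorem Cols.coord_ne (h : Cols hM E B f w) {x : I → (A →* ℂˣ) → ℤ}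
    (hx : ∀ χ μ, (x χ μ : ℂ) * ((Nat.card E : ℂ) * (Nat.card A : ℂ)) =
      ∑ v : A, orbSum E μ v * f χ v)
    {χ : I} (hχ : χ ∈ B) {v₀ : A} (hv₀ : v₀ ≠ 1) : ∃ μ : A →* ℂˣ, μ ≠ 1 ∧ x χ μ ≠ 0 := by
  classical
  haveI := Fintype.ofFinite (A →* ℂˣ)
  by_contra hno
  push Not at hno
  set g : A → ℂ := fun v => if v = 1 then 0 else f χ v with hg
  have hall : ∀ μ : A →* ℂˣ, ∑ v : A, ((μ v : ℂˣ) : ℂ) * g v = ∑ v : A, g v := by
    intro μ
    rcases eq_or_ne μ 1 with rfl | hμ
    · simp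
    have h0 : ∑ v : A, orbSum E μ v * g v = 0 := by
      rw [Finset.sum_congr rfl fun v _ => show orbSum E μ v * g v = orbSum E μ v * f χ v by
        rcases eq_or_ne v 1 with rfl | hv
        · simp [orbSum_one]
        · simp only [hg, if_neg hv], ← hx, hno μ hμ, Int.cast_zero, zero_mul]
    have hE0 : (Nat.card E : ℂ) ≠ 0 := Nat.cast_ne_zero.2 Nat.card_pos.ne'
    simp only [orbSum, sub_mul, Finset.sum_sub_distrib, Finset.sum_mul] at h0
    rw [Finset.sum_comm, Finset.sum_congr rfl fun (β : E) _ => show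
      ∑ v : A, ((μ ((β : MulAut A) v) : ℂˣ) : ℂ) * g v = ∑ v : A, ((μ v : ℂˣ) : ℂ) * g v from
        Fintype.sum_equiv (β : MulAut A).toEquiv _ _ fun v => by
          rcases eq_or_ne v 1 with rfl | hv
          · simp [hg]
          · have hv' : (β : MulAut A) v ≠ 1 := fun e => hv ((β : MulAut A).injective
              (e.trans (map_one _).symm))
            show _ = ((μ ((β : MulAut A) v) : ℂˣ) : ℂ) * g ((β : MulAut A) v)
            simp only [hg, if_neg hv, if_neg hv', h.inv χ _ β.2 v hv],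
      Finset.sum_const, Finset.card_univ, ← Nat.card_eq_fintype_card, nsmul_eq_mul,
      ← Finset.mul_sum, ← mul_sub, mul_eq_zero] at h0
    exact sub_eq_zero.1 (h0.resolve_left hE0)
  refine h.ne_zero χ hχ v₀ hv₀ ?_
  have hrow : ∀ z : A, ∑ μ : A →* ℂˣ, ((μ z : ℂˣ) : ℂ) =
      if z = 1 then (Fintype.card (A →* ℂˣ) : ℂ) else 0 := by
    intro z
    split_ifs with hz
    · simp [hz]
    · obtain ⟨φ, hφ⟩ := CommGroup.exists_apply_ne_one_of_hasEnoughRootsOfUnity A ℂ hz
      have h2 : (φ z : ℂ) * ∑ μ : A →* ℂˣ, ((μ z : ℂˣ) : ℂ) = ∑ μ : A →* ℂˣ, ((μ z : ℂˣ) : ℂ) := by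
        rw [Finset.mul_sum]
        exact Fintype.sum_equiv (Equiv.mulLeft φ) _ _ fun μ => by simp
      have h3 : ((φ z : ℂ) - 1) * ∑ μ : A →* ℂˣ, ((μ z : ℂˣ) : ℂ) = 0 := by
        rw [sub_mul, one_mul, h2, sub_self]
      exact (mul_eq_zero.1 h3).resolve_left (sub_ne_zero.2 fun e => hφ (Units.ext e))
  have h1 : ∑ μ : A →* ℂˣ, ∑ v : A, ((μ (v * v₀⁻¹) : ℂˣ) : ℂ) * g v =
      (Fintype.card (A →* ℂˣ) : ℂ) * g v₀ := by
    rw [Finset.sum_comm]
    simp only [← Finset.sum_mul, hrow, mul_inv_eq_one, ite_mul, zero_mul]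
    rw [Finset.sum_ite_eq' Finset.univ v₀, if_pos (Finset.mem_univ _)]
  have h2 : ∑ μ : A →* ℂˣ, ∑ v : A, ((μ (v * v₀⁻¹) : ℂˣ) : ℂ) * g v = 0 := by
    rw [Finset.sum_congr rfl fun μ _ => show ∑ v : A, ((μ (v * v₀⁻¹) : ℂˣ) : ℂ) * g v =
      ((μ v₀⁻¹ : ℂˣ) : ℂ) * ∑ v : A, g v by
        rw [← hall μ, Finset.mul_sum]
        exact Finset.sum_congr rfl fun v _ => by rw [map_mul, Units.val_mul]; ring,
      ← Finset.sum_mul, hrow, if_neg (inv_ne_one.2 hv₀), zero_mul]
  rw [h2] at h1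
  simpa [hg, hv₀, Fintype.card_ne_zero] using h1.symm

/-- The bounds on a block with free action. -/
theorem Cols.count (h : Cols hM E B f w) {v₀ : A} (hv₀ : v₀ ≠ 1) {l : ℕ} (hl : 1 ≤ l)
    (hkl : B.card * Nat.card E = l * Nat.card E + (Nat.card A - 1)) :
    B.card ≤ Nat.card E + (Nat.card A - 1) / Nat.card E ∧ l ≤ Nat.card E ∧
      (B.card = Nat.card E + (Nat.card A - 1) / Nat.card E ↔ l = Nat.card E) ∧
      (Nat.card E ≤ 3 → ¬ (Nat.card A).Prime →
        B.card = Nat.card E + (Nat.card A - 1) / Nat.card E ∧ l = Nat.card E) := by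
  classical
  haveI : Finite (Quotient (orbRel E)) := Quotient.finite _
  haveI := Fintype.ofFinite (Quotient (orbRel E))
  choose x hx using h.exists_coord
  set e := Nat.card E with he
  set m := Fintype.card (Quotient (orbRel E)) with hm
  have hme : m * e = Nat.card A - 1 := card_orbits h.free
  have he0 : 0 < e := Nat.card_pos
  have hdiv : (Nat.card A - 1) / e = m := by rw [← hme, Nat.mul_div_cancel _ he0]
  have hkl' : B.card = l + m := by
    rw [← hme, ← add_mul] at hkl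
    exact Nat.eq_of_mul_eq_mul_right he0 hkl
  rw [hdiv, hkl']
  set g : I → Quotient (orbRel E) → ℤ := fun χ O => x χ O.out.1 with hg
  have hrel : ∀ {χ : I} {μ ν : {μ : A →* ℂˣ // μ ≠ 1}}, (orbRel E).r μ ν → x χ μ.1 = x χ ν.1 := by
    rintro χ μ ν ⟨β, hβ, e'⟩
    have hne : (e : ℂ) * (Nat.card A : ℂ) ≠ 0 :=
      mul_ne_zero (Nat.cast_ne_zero.2 he0.ne') (Nat.cast_ne_zero.2 Nat.card_pos.ne')
    have h2 : (x χ μ.1 : ℂ) = (x χ ν.1 : ℂ) := by
      refine mul_right_cancel₀ hne ?_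
      rw [hx, hx]
      refine Finset.sum_congr rfl fun v _ => ?_
      congr 1
      rw [← e']
      unfold orbSum
      congr 1
      exact (Fintype.sum_equiv (Equiv.mulLeft (⟨β, hβ⟩ : E)) _ _ fun γ => rfl).symm
    exact_mod_cast h2
  have hgram : ∀ O O', ∑ χ ∈ B, g χ O * g χ O' = (if O = O' then 1 else 0) + (e : ℤ) := by
    intro O O'
    rw [h.coord_gram hx O.out O'.out]
    congr 1
    refine if_congr ?_ rfl rfl
    exact ⟨fun hr => by rw [← Quotient.out_eq O, ← Quotient.out_eq O']; exact Quotient.sound hr,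
      fun hr => hr ▸ (orbRel E).iseqv.refl _⟩
  have hdeg : ∀ O, ∑ χ ∈ B, g χ O * w χ = 0 := by
    intro O
    have h2 : ((∑ χ ∈ B, g χ O * w χ : ℤ) : ℂ) * ((e : ℂ) * (Nat.card A : ℂ)) = 0 := by
      push_cast
      rw [Finset.sum_mul, Finset.sum_congr rfl fun χ _ => by
        rw [mul_right_comm, hx, Finset.sum_mul], Finset.sum_comm]
      refine Finset.sum_eq_zero fun v _ => ?_
      rcases eq_or_ne v 1 with rfl | hv
      · simp [orbSum_one]
      · simp only [mul_assoc, ← Finset.mul_sum, h.deg v hv, mul_zero]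
    exact_mod_cast (mul_eq_zero.1 h2).resolve_right
      (mul_ne_zero (Nat.cast_ne_zero.2 he0.ne') (Nat.cast_ne_zero.2 Nat.card_pos.ne'))
  have hsupp : ∀ χ ∈ B, ∃ O, g χ O ≠ 0 := by
    intro χ hχ
    obtain ⟨μ, hμ, hne⟩ := h.coord_ne hx hχ hv₀
    refine ⟨Quotient.mk _ ⟨μ, hμ⟩, ?_⟩
    show x χ _ ≠ 0
    rwa [show x χ (Quotient.mk (orbRel E) ⟨μ, hμ⟩).out.1 = x χ μ from
      hrel (Quotient.mk_out (s := orbRel E) ⟨μ, hμ⟩)]
  have hm1 : 0 < m := by
    obtain ⟨χ, hχ⟩ := Finset.card_pos.1 (by omega : 0 < B.card)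
    obtain ⟨O, -⟩ := hsupp χ hχ
    exact Fintype.card_pos_iff.2 ⟨O⟩
  rcases Nat.lt_or_ge m 2 with hm2 | hm2
  · have hmone : m = 1 := by omega
    obtain ⟨O₀⟩ := Fintype.card_pos_iff.1 hm1
    have hsub : ∀ O, O = O₀ := fun O => Fintype.card_le_one_iff.1 (by omega) O O₀
    have hne : ∀ χ ∈ B, g χ O₀ ≠ 0 := fun χ hχ => by
      obtain ⟨O, hO⟩ := hsupp χ hχ
      rwa [hsub O] at hO
    have hsum : ∑ χ ∈ B, g χ O₀ ^ 2 = (e : ℤ) + 1 := by
      simp only [sq]
      rw [hgram, if_pos rfl, add_comm]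
    have hge : ∀ χ ∈ B, (1 : ℤ) ≤ g χ O₀ ^ 2 := fun χ hχ => by
      have := hne χ hχ
      nlinarith [sq_nonneg (g χ O₀), Int.one_le_abs this, sq_abs (g χ O₀)]
    have hle : (B.card : ℤ) ≤ (e : ℤ) + 1 := by
      rw [← hsum, Finset.card_eq_sum_ones, Nat.cast_sum, Nat.cast_one]
      exact Finset.sum_le_sum hge
    refine ⟨by omega, by omega, by omega, fun he3 hprime => ?_⟩
    have hn : Nat.card A = e + 1 := by
      rw [hmone, one_mul] at hme
      have := (Nat.card_pos : 0 < Nat.card A)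
      omega
    have : e = 3 := by
      rw [hn] at hprime
      interval_cases e
      · exact absurd (by norm_num) hprime
      · exact absurd (by norm_num) hprime
      · rfl
    suffices l = 3 by omega
    by_contra hne3
    have hbig : ∃ χ ∈ B, 4 ≤ g χ O₀ ^ 2 := by
      by_contra hsm
      push Not at hsm
      have hall : ∀ χ ∈ B, g χ O₀ ^ 2 = 1 := fun χ hχ => by
        have h1 := hge χ hχ
        have h2 := hsm χ hχ
        have : g χ O₀ ≤ 1 ∧ -1 ≤ g χ O₀ := ⟨by nlinarith, by nlinarith⟩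
        have := hne χ hχ
        rcases (show g χ O₀ = 1 ∨ g χ O₀ = -1 by omega) with h' | h' <;> rw [h'] <;> norm_num
      rw [Finset.sum_congr rfl hall, Finset.sum_const, nsmul_eq_mul, mul_one] at hsum
      omega
    obtain ⟨χ, hχ, h4⟩ := hbig
    rw [← Finset.add_sum_erase _ _ hχ] at hsum
    have hrest : ((B.erase χ).card : ℤ) ≤ ∑ ψ ∈ B.erase χ, g ψ O₀ ^ 2 := by
      rw [Finset.card_eq_sum_ones, Nat.cast_sum, Nat.cast_one]
      exact Finset.sum_le_sum fun ψ hψ => hge ψ (Finset.mem_of_mem_erase hψ)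
    have := Finset.card_erase_of_mem hχ
    omega
  · obtain ⟨ζ, δ, d, a, hδ, hζB, hζ, hζg, ha, hsum⟩ :=
      AbelianFree.Data.classify (B := B) (g := g) (w := w) (m := e) ⟨hgram, hdeg, h.wpos, hm2⟩
    set Y := B.filter fun χ => ∀ O, ζ O ≠ χ with hY
    have hsplit : B.card = m + Y.card := by
      have h1 : B.filter (fun χ => ¬ ∀ O, ζ O ≠ χ) = Finset.univ.image ζ := by
        ext χ
        simp only [Finset.mem_filter, Finset.mem_image, Finset.mem_univ, true_and, ne_eq, not_forall,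
          not_not]
        exact ⟨fun h => h.2, fun ⟨O, hO⟩ => ⟨hO ▸ hζB O, O, hO⟩⟩
      rw [← Finset.card_filter_add_card_filter_not (fun χ => ∀ O, ζ O ≠ χ) (s := B), h1,
        Finset.card_image_of_injective _ hζ, Finset.card_univ, add_comm]
    have hYl : Y.card = l := by omega
    have ha0 : ∀ χ ∈ Y, (1 : ℤ) ≤ a χ ^ 2 := fun χ hχ => by
      obtain ⟨hχB, hχζ⟩ := Finset.mem_filter.1 hχ
      obtain ⟨O, hO⟩ := hsupp χ hχB
      rw [ha χ hχB hχζ O] at hO
      nlinarith [Int.one_le_abs hO, sq_abs (a χ), abs_nonneg (a χ)]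
    have hbr : (1 : ℤ) ≤ (d + δ) ^ 2 + ((m : ℤ) - 1) * d ^ 2 := by
      rcases eq_or_ne d 0 with rfl | hd
      · rcases hδ with rfl | rfl <;> simp
      · have h1 : (1 : ℤ) ≤ d ^ 2 := by nlinarith [Int.one_le_abs hd, sq_abs d, abs_nonneg d]
        nlinarith [sq_nonneg (d + δ), show (1 : ℤ) ≤ (m : ℤ) - 1 by omega]
    have hle : (Y.card : ℤ) ≤ ∑ χ ∈ Y, a χ ^ 2 := by
      rw [Finset.card_eq_sum_ones, Nat.cast_sum, Nat.cast_one]
      exact Finset.sum_le_sum ha0
    rw [← hm] at hsum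
    refine ⟨by omega, by omega, by omega, fun he3 hprime => ?_⟩
    suffices hle' : e ≤ l by omega
    by_contra hlt
    haveI : Fact p.Prime := ⟨hM.1⟩
    obtain ⟨k, hk⟩ := IsPGroup.iff_card.1 h.isP
    have hcase : ∀ χ ∈ Y, a χ ^ 2 = 1 := fun χ hχ => by
      have h1 := Finset.single_le_sum (f := fun χ => a χ ^ 2) (fun ψ _ => sq_nonneg _) hχ
      have h2 : (a χ).natAbs ≤ 1 := by
        by_contra h3
        have h4 : (4 : ℤ) ≤ a χ ^ 2 := by
          have : (2 : ℤ) ≤ |a χ| := by rw [Int.abs_eq_natAbs]; omega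
          nlinarith [sq_abs (a χ)]
        omega
      have h3 := ha0 χ hχ
      have h5 : -1 ≤ a χ ∧ a χ ≤ 1 := by omega
      obtain e1 | e1 | e1 : a χ = 1 ∨ a χ = -1 ∨ a χ = 0 := by omega
      · rw [e1]; norm_num
      · rw [e1]; norm_num
      · rw [e1] at h3; norm_num at h3
    rw [Finset.sum_congr rfl hcase, Finset.sum_const, nsmul_eq_mul, mul_one, hYl] at hsum
    have hB3 : (d + δ) ^ 2 + ((m : ℤ) - 1) * d ^ 2 ≤ 3 := by omega
    rcases eq_or_ne d 0 with rfl | hd
    · rcases hδ with rfl | rfl <;> simp at hsum <;> omega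
    have hdδ : d = -δ := by
      by_contra hne
      have h1 : (1 : ℤ) ≤ d ^ 2 := by nlinarith [Int.one_le_abs hd, sq_abs d, abs_nonneg d]
      have h0 : (1 : ℤ) ≤ (m : ℤ) - 1 := by omega
      rcases hδ with rfl | rfl
      · rcases lt_or_gt_of_ne hne with h2 | h2
        · nlinarith [show (4 : ℤ) ≤ d ^ 2 by nlinarith]
        · rcases lt_or_gt_of_ne hd with h3 | h3
          · omega
          · nlinarith [show (4 : ℤ) ≤ (d + 1) ^ 2 by nlinarith]
      · rcases lt_or_gt_of_ne hne with h2 | h2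
        · rcases lt_or_gt_of_ne hd with h3 | h3
          · nlinarith [show (4 : ℤ) ≤ (d + -1) ^ 2 by nlinarith]
          · omega
        · nlinarith [show (4 : ℤ) ≤ d ^ 2 by nlinarith]
    have hd2 : d ^ 2 = 1 := by rw [hdδ]; rcases hδ with rfl | rfl <;> norm_num
    rw [show d + δ = 0 by omega, hd2] at hsum hB3
    have hmle : m ≤ 4 := by norm_num at hB3; omega
    have hn : Nat.card A = m * e + 1 := by have := (Nat.card_pos : 0 < Nat.card A); omega
    norm_num at hsum
    interval_cases m <;> interval_cases e <;> first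
      | omega
      | (rw [hn] at hprime; refine hprime ?_; norm_num; done)
      | (rw [hn] at hk
         have h2 := (Nat.prime_dvd_prime_iff_eq Nat.prime_two hM.1).1
           (Nat.prime_two.dvd_of_dvd_pow (show 2 ∣ p ^ k by rw [← hk]; norm_num))
         have h5 := (Nat.prime_dvd_prime_iff_eq Nat.prime_five hM.1).1
           (Nat.prime_five.dvd_of_dvd_pow (show 5 ∣ p ^ k by rw [← hk]; norm_num))
         omega)

end CfsgLib.Blocks.AbFree
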