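import Cfsg.Agent.Lib.Blocks.AbFree.Signs
import Cfsg.Agent.Lib.Blocks.AbFree.Shape
import Cfsg.Agent.Lib.Blocks.CyclicMain
import Cfsg.Agent.Lib.Blocks.Star.Fixed

/-!
# Abelian defect group with a free inertial action
-/

namespace CfsgLib.Blocks.AbFree

open Cfsg CfsgLib.CharTheory Star
open scoped ComplexConjugate

set_option linter.unusedVariables false
set_option linter.unusedSimpArgs false
set_option linter.style.haveILetI false
set_option linter.unusedSectionVars false

universe u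

variable {p : ℕ} {M : Ideal AlgInt} {G : Type u} [Group G] [Fintype G]
  {B : Set (IrrCharacter G)} {P : Subgroup G}
  {c : Set (IrrCharacter (Subgroup.centralizer (P : Set G)))} {a : ℕ}

theorem abData_of_free (hM : IsPModular p M) (hmax : IsMaximalBrauerPair p M B P c)
    (hab : ∀ x ∈ P, ∀ y ∈ P, x * y = y * x) (hfree : FreeStab P c) :
    ∃ a, AbData p M B P c a := by
  haveI : Fact p.Prime := ⟨hM.1⟩
  obtain ⟨a, ha⟩ := IsPGroup.iff_card.1 hmax.1.1.1
  refine ⟨a, hM, hmax, hab, ha, fun u hu hu1 => ?_⟩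
  haveI : ∀ Q : Subgroup G, Fintype (Subgroup.centralizer (Q : Set G)) :=
    fun Q => Fintype.ofFinite _
  set Q := Subgroup.zpowers u with hQ
  obtain ⟨f, hstep, -, -, x, hx, hup, hmax'⟩ :=
    exists_local_abelian hM hmax hab (Subgroup.zpowers_le.2 hu : Q ≤ P)
  obtain ⟨hcard, hab', hst, hcent⟩ := local_abelian_props hup hab
  have htriv : pairStab x.1 x.2 ≤
      Subgroup.centralizer (x.1 : Set (Subgroup.centralizer (Q : Set G))) := fun z hz =>
    (hcent z).1 (hfree _ (hst z hz) u hu hu1 (by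
      rw [← z.2 u (Subgroup.mem_zpowers u), mul_inv_cancel_right]))
  obtain ⟨f', hf', huni⟩ := existsUnique_subpair hM hmax.1.1.1 hmax.1.1.2 Q
    (Subgroup.zpowers_le.2 hu)
  have h1 : (belowIdx p M P c Q).2 = f' := huni _ (Classical.epsilon_spec
    (p := fun f => IsPBlock M f ∧ SubpairLE p M Q f P c) ⟨f', hf'⟩)
  have h2 : f = f' := huni f ⟨hstep.1.2, Relation.ReflTransGen.single hstep⟩
  rw [show (belowIdx p M P c Q).2 = f from h1.trans h2.symm]
  exact (rank_one_of_abelian_triv hM hmax' hab' htriv).1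

/-- The counts. -/
theorem counts (h : AbData p M B P c a) (hfree : FreeStab P c) (hP1 : P ≠ ⊥) :
    Nat.card B ≤ (Subgroup.centralizer (P : Set G)).relIndex (pairStab P c) +
        (Nat.card P - 1) / (Subgroup.centralizer (P : Set G)).relIndex (pairStab P c) ∧
      blockRank p B ≤ (Subgroup.centralizer (P : Set G)).relIndex (pairStab P c) ∧
      (Nat.card B = (Subgroup.centralizer (P : Set G)).relIndex (pairStab P c) +
          (Nat.card P - 1) / (Subgroup.centralizer (P : Set G)).relIndex (pairStab P c) ↔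
        blockRank p B = (Subgroup.centralizer (P : Set G)).relIndex (pairStab P c)) ∧
      ((Subgroup.centralizer (P : Set G)).relIndex (pairStab P c) ≤ 3 →
        Nat.card B = (Subgroup.centralizer (P : Set G)).relIndex (pairStab P c) +
          (Nat.card P - 1) / (Subgroup.centralizer (P : Set G)).relIndex (pairStab P c) ∧
        blockRank p B = (Subgroup.centralizer (P : Set G)).relIndex (pairStab P c)) := by
  classical
  have hM := h.mod
  haveI : Fact p.Prime := ⟨hM.1⟩
  haveI := res_charP hM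
  haveI := res_isDomain hM
  haveI : ∀ Q : Subgroup G, Fintype (Subgroup.centralizer (Q : Set G)) :=
    fun Q => Fintype.ofFinite _
  set e := (Subgroup.centralizer (P : Set G)).relIndex (pairStab P c) with he
  letI : CommGroup P :=
    { (inferInstance : Group P) with
      mul_comm := fun x y => Subtype.ext (h.comm x x.2 y y.2) }
  have hA : IsPGroup p P := h.isP
  -- the automorphisms
  have hTN : (pairStab P c) ≤ Subgroup.normalizer (P : Set G) := fun t ht => ((mem_pairStab t).1 ht).1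
  set ρ := autHom P hTN with hρ
  set E : Subgroup (MulAut P) := ρ.range with hE
  haveI : Fintype E := Fintype.ofFinite _
  have hEauto : E = autInducedBy (pairStab P c) P := by
    ext α
    rw [mem_autInducedBy_iff]
    constructor
    · rintro ⟨t, rfl⟩
      exact ⟨t, t.2, hTN t.2, fun x => rfl⟩
    · rintro ⟨g, hg, -, hga⟩
      exact ⟨⟨g, hg⟩, MulEquiv.ext fun x => Subtype.ext (hga x).symm⟩
  have hcop : ¬ p ∣ Nat.card E := by rw [hEauto]; exact inertial_coprime hM h.max h.comm
  have hker : ρ.ker = (Subgroup.centralizer (P : Set G)).subgroupOf (pairStab P c) := by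
    ext t
    rw [MonoidHom.mem_ker, Subgroup.mem_subgroupOf]
    constructor
    · intro ht x hx
      have := congrArg (fun α : MulAut P => ((α ⟨x, hx⟩ : P) : G)) ht
      exact (mul_inv_eq_iff_eq_mul.1 this).symm
    · intro ht
      refine MulEquiv.ext fun x => Subtype.ext ?_
      show (t : G) * x * (t : G)⁻¹ = x
      rw [← ht x x.2, mul_inv_cancel_right]
  have hcardE : Nat.card E = e := by
    rw [hE, ← Subgroup.index_ker, hker]; rfl
  have hEfree : ∀ β ∈ E, ∀ v : P, β v = v → v ≠ 1 → β = 1 := by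
    rintro β ⟨t, rfl⟩ v hv hv1
    have : t ∈ ρ.ker := by
      rw [hker, Subgroup.mem_subgroupOf]
      exact hfree _ t.2 v v.2 (fun e' => hv1 (Subtype.ext e')) (congrArg Subtype.val hv)
    exact this
  obtain ⟨v₀, hv₀⟩ : ∃ v : P, v ≠ 1 := by
    by_contra hno
    push Not at hno
    exact hP1 ((Subgroup.eq_bot_iff_forall P).2 fun x hx => congrArg Subtype.val (hno ⟨x, hx⟩))
  have hv₀G : (v₀ : G) ≠ 1 := fun e' => hv₀ (Subtype.ext e')
  -- the count
  have hkl : Nat.card B * e = blockRank p B * e + (Nat.card P - 1) := by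
    haveI := Fintype.ofFinite (pairStab P c)
    have h1 := sum_sRk hM h.max h.comm
    have hone : sRk p M P c ((1 : P) : G) = Nat.card (pairStab P c) * blockRank p B := by
      have htop : Subgroup.centralizer ((Subgroup.zpowers (1 : G) : Subgroup G) : Set G) = ⊤ := by
        refine eq_top_iff.2 fun g _ => (isCentr_zpowers (1 : G) g).2 (Commute.one_right g)
      rw [sRk, Subgroup.coe_one, subRk_central hM h.max (Subgroup.zpowers_le.2 P.one_mem) htop,
        htop, inf_top_eq]
    have hoth : ∀ v : P, v ≠ 1 → sRk p M P c (v : G) = Nat.card (Subgroup.centralizer (P : Set G)) := by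
      intro v hv
      have hv1 : (v : G) ≠ 1 := fun e' => hv (Subtype.ext e')
      have hQ : Subgroup.zpowers (v : G) ≤ P := h.zpowers_le v.2
      obtain ⟨h2, h3⟩ := subIdx_spec hM (a := (⟨P, c⟩ : BrauerPairIdx G)) h.isP h.isBlockC hQ
      have h4 : subIdx p M (⟨P, c⟩ : BrauerPairIdx G) (Subgroup.zpowers (v : G)) =
          belowIdx p M P c (Subgroup.zpowers (v : G)) := h.below_eq h2 h3
      have h5 : subRk p M P c (Subgroup.zpowers (v : G)) = 1 := by
        rw [subRk, idxRank, h4]; exact h.rankOne v v.2 hv1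
      have h6 : pairStab P c ⊓ Subgroup.centralizer
          ((Subgroup.zpowers (v : G) : Subgroup G) : Set G) = (Subgroup.centralizer (P : Set G)) := by
        refine le_antisymm (fun t ht => hfree t ht.1 v v.2 hv1 ?_)
          (le_inf (cent_le_pairStab P c) (Subgroup.centralizer_le hQ))
        exact mul_inv_eq_iff_eq_mul.2 ((isCentr_zpowers (v : G) t).1 ht.2)
      rw [sRk, h5, mul_one, h6]
    rw [← Finset.add_sum_erase _ _ (Finset.mem_univ (1 : P)), hone,
      Finset.sum_congr rfl fun v hv => hoth v (Finset.ne_of_mem_erase hv), Finset.sum_const,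
      Finset.card_erase_of_mem (Finset.mem_univ _), Finset.card_univ, smul_eq_mul,
      ← Nat.card_eq_fintype_card] at h1
    have h2 : Nat.card (pairStab P c) = Nat.card (Subgroup.centralizer (P : Set G)) * e := by
      rw [he, Subgroup.relIndex, ← Subgroup.card_mul_index ((Subgroup.centralizer (P : Set G)).subgroupOf (pairStab P c)),
        Nat.card_congr (Subgroup.subgroupOfEquivOfLe (cent_le_pairStab P c)).toEquiv]
    change Nat.card (pairStab P c) * Nat.card B = _ at h1
    rw [h2] at h1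
    refine Nat.eq_of_mul_eq_mul_left (Nat.card_pos (α := (Subgroup.centralizer (P : Set G)))) ?_
    linarith
  -- prime order
  by_cases hprime : (Nat.card P).Prime
  · haveI : IsCyclic P := by
      haveI : Fact (Nat.card P).Prime := ⟨hprime⟩
      exact isCyclic_of_prime_card rfl
    have ha1 : 1 ≤ a := by
      by_contra ha0
      have := h.card
      rw [show a = 0 by omega, pow_zero] at this
      exact hprime.ne_one this
    have hc : CycData p M B P c a := ⟨hM, h.max, inferInstance, h.card, ha1⟩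
    haveI : Finite (↥P →* ℂˣ) := finite_linearChars P
    haveI : Fintype (↥P →* ℂˣ) := Fintype.ofFinite _
    obtain ⟨s, m, ζ, δ, α, X, Y, -, hS⟩ := hc.exists_full
    have hr : blockRank p B = e := hS.rank
    have he0 : 0 < e := hcardE ▸ Nat.card_pos
    have hk : Nat.card B = e + (Nat.card P - 1) / e := by
      have hY : (Nat.card P - 1) / e = Y.card := by
        rw [h.card, ← hS.cardY]
        exact Nat.mul_div_cancel _ he0
      rw [hY, ← show X.card = e from hS.cardX, ← Finset.card_union_of_disjoint hS.disj,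
        card_bset']
      refine congrArg Finset.card (Finset.ext fun χ => ?_)
      rw [mem_bset, Finset.mem_union]
      exact hS.union χ
    exact ⟨hk.le, hr.le, iff_of_true hk hr, fun _ => ⟨hk, hr⟩⟩
  -- the signed columns
  obtain ⟨s, hs1, hsz, hsK⟩ :=
    exists_signed h hfree (θ := P.subtype) Subtype.coe_injective P.range_subtype
  choose K hKA hKv using hsK
  obtain ⟨χ₀, hχ₀, hh0⟩ := exists_height_zero hM h.isBlock
  have hdinv : ∀ χ : IrrCharacter G, ∀ β ∈ E, ∀ v : P,
      dsec p M P c ((β v : P) : G) (χ : G → ℂ) = dsec p M P c (v : G) (χ : G → ℂ) := by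
    rintro χ β ⟨t, rfl⟩ v
    exact h.dsec_conj t.2 v.2 χ
  have hne1 : ∀ β ∈ E, ∀ v : P, v ≠ 1 → β v ≠ 1 := fun β hβ v hv e' =>
    hv (β.injective (e'.trans (map_one β).symm))
  have hK1 : res hM (K χ₀ 1) ≠ 0 := by
    obtain ⟨hm1, hr1⟩ := (hKA χ₀).mem_loc_of hA v₀
    rw [← hr1]
    intro h0
    have hval := hKv χ₀ v₀ hv₀
    obtain ⟨hsm, hsne⟩ := secPair_res_ne hM (isCentr_zpowers (v₀ : G)) (h.ord v₀.2)
      (h.induced_below (h.zpowers_le v₀.2)) hχ₀ hχ₀ hh0 hh0
    refine hsne ?_
    rw [h.secPair_eq v₀.2 hv₀G]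
    have hd : dsec p M P c (v₀ : G) (χ₀ : G → ℂ) = (s v₀ : ℂ) * K χ₀ v₀ := by
      rw [hval]
      rcases hs1 v₀ hv₀ with e' | e' <;> rw [e'] <;> simp
    have hconj : conj (dsec p M P c (v₀ : G) (χ₀ : G → ℂ)) = (s v₀ : ℂ) * K χ₀ v₀⁻¹ := by
      rw [hd, map_mul, map_intCast, ← (hKA χ₀).apply_inv]
    obtain ⟨hm2, -⟩ := (hKA χ₀).mem_loc_of hA v₀⁻¹
    rw [hconj, hd, show (s v₀ : ℂ) * K χ₀ v₀ * ((s v₀ : ℂ) * K χ₀ v₀⁻¹) =
      K χ₀ v₀ * K χ₀ v₀⁻¹ by rcases hs1 v₀ hv₀ with e' | e' <;> rw [e'] <;> simp,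
      res_mul hM hm1 hm2, h0, zero_mul]
  -- invariant signs
  obtain ⟨σ, hσ1, hσinv, hσA⟩ : ∃ σ : P → ℤ, (∀ v ≠ 1, σ v = 1 ∨ σ v = -1) ∧
      (∀ β ∈ E, ∀ v ≠ 1, σ (β v) = σ v) ∧
      ∀ χ : IrrCharacter G, ∃ L : P → ℂ, InA hM L ∧
        ∀ v ≠ 1, L v = (σ v : ℂ) * dsec p M P c (v : G) (χ : G → ℂ) := by
    by_cases hp2 : p = 2
    swap
    · refine ⟨s, hs1, fun β hβ v hv => ?_, fun χ => ⟨K χ, hKA χ, hKv χ⟩⟩
      by_contra hne
      obtain ⟨hmv, hrv⟩ := (hKA χ₀).mem_loc_of hA v
      obtain ⟨hmw, hrw'⟩ := (hKA χ₀).mem_loc_of hA (β v)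
      have hv' := hne1 β hβ v hv
      have hopp : K χ₀ (β v) = -K χ₀ v := by
        rw [hKv χ₀ _ hv', hKv χ₀ v hv, show (P.subtype (β v) : G) = ((β v : P) : G) from rfl,
          hdinv χ₀ β hβ v]
        rcases hs1 v hv with e' | e' <;> rcases hs1 _ hv' with e'' | e'' <;>
          first
          | exact absurd (e''.trans e'.symm) hne
          | (rw [e', e'']; simp)
      have h2 : res hM (K χ₀ (β v)) + res hM (K χ₀ v) = 0 := by
        rw [← res_add hM hmw hmv, hopp, neg_add_cancel, res_zero]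
      rw [hrw', hrv, ← two_mul, mul_eq_zero] at h2
      rcases h2 with h2 | h2
      · refine hp2 ((Nat.prime_dvd_prime_iff_eq hM.1 Nat.prime_two).1 ?_)
        exact (CharP.cast_eq_zero_iff (AlgInt ⧸ M) p 2).1 (by exact_mod_cast h2)
      · exact hK1 h2
    · have hodd : Odd (Nat.card E) := by
        rw [← Nat.not_even_iff_odd, even_iff_two_dvd, ← hp2]; exact hcop
      set σ : P → ℤ := fun v => ∏ β : E, s ((β : MulAut P) v) with hσdef
      have hpm : ∀ v, v ≠ 1 → σ v = 1 ∨ σ v = -1 := fun v hv => by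
        refine Finset.prod_induction _ (fun z : ℤ => z = 1 ∨ z = -1) ?_ (Or.inl rfl)
          fun β _ => hs1 _ (hne1 _ β.2 v hv)
        rintro x y (rfl | rfl) (rfl | rfl) <;> simp
      refine ⟨σ, hpm, fun β hβ v _ => ?_, fun χ => ?_⟩
      · exact Fintype.prod_equiv (Equiv.mulRight (⟨β, hβ⟩ : E)) _ _ fun γ => rfl
      · refine ⟨fun v => (∏ β : E, K χ₀ ((β : MulAut P) v) * (K χ₀ v)⁻¹) * K χ v,
          (InA.finset_prod fun (β : E) _ => ((hKA χ₀).comp (β : MulAut P).toMonoidHom).mul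
            ((hKA χ₀).inv hA hK1)).mul (hKA χ), fun v hv => ?_⟩
        have hd0 : dsec p M P c (v : G) (χ₀ : G → ℂ) ≠ 0 :=
          h.dsec_ne_zero v.2 (fun e' => hv (Subtype.ext e')) hχ₀
        show (∏ β : E, K χ₀ ((β : MulAut P) v) * (K χ₀ v)⁻¹) * K χ v = _
        rw [Finset.prod_congr rfl fun (β : E) _ => show K χ₀ ((β : MulAut P) v) * (K χ₀ v)⁻¹ =
            (s ((β : MulAut P) v) : ℂ) * (s v : ℂ) by
          rw [hKv χ₀ _ (hne1 _ β.2 v hv), hKv χ₀ v hv]
          show (s _ : ℂ) * dsec p M P c (((β : MulAut P) v : P) : G) (χ₀ : G → ℂ) *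
            ((s v : ℂ) * dsec p M P c (v : G) (χ₀ : G → ℂ))⁻¹ = _
          rw [hdinv χ₀ _ β.2 v]
          rcases hs1 v hv with e' | e' <;> rw [e'] <;> push_cast <;> field_simp,
          Finset.prod_mul_distrib, Finset.prod_const, Finset.card_univ, hKv χ v hv,
          ← Nat.card_eq_fintype_card, hσdef]
        push_cast
        rcases hs1 v hv with e' | e' <;> rw [e'] <;> push_cast <;>
          simp [hodd.neg_one_pow, (Nat.card_eq_fintype_card (α := E) ▸ hodd : Odd (Fintype.card E)).neg_one_pow]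
  choose L hLA hLv using hσA
  set f : IrrCharacter G → P → ℂ := fun χ v => (σ v : ℂ) * dsec p M P c (v : G) (χ : G → ℂ)
    with hf
  have hcols : Cols hM E (bset B) f fun χ => (charDegree (χ : G → ℂ) : ℤ) := by
    refine ⟨hA, hcop, hEfree, fun χ => ⟨L χ, hLA χ, hLv χ⟩, fun χ β hβ v hv => ?_,
      fun χ v hv => ?_, fun v w hv hw => ?_, fun v hv => ?_, fun χ _ => ?_, fun χ hχ v hv => ?_⟩
    · simp only [hf]; rw [hσinv β hβ v hv, hdinv χ β hβ v]
    · simp only [hf]
      refine (isIntegral_intCast' _).mul ?_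
      obtain ⟨_, d, _, hf0, -, -, -, hdeg, -⟩ := single_block hM
        (h.below_spec (h.zpowers_le v.2)).1 (h.rankOne v v.2 fun e' => hv (Subtype.ext e'))
      change IsIntegral ℤ (cval (v : G) ⟨Subgroup.zpowers (v : G),
        (belowIdx p M P c (Subgroup.zpowers (v : G))).2⟩ (χ : G → ℂ))
      rw [cval_eq_sum hM (φ := 0) hf0 hdeg]
      refine IsIntegral.sum _ fun θ _ => IsIntegral.mul ?_ (isIntegral_natCast' _)
      exact inner_shift_integral (ι := (Subgroup.centralizer
          ((Subgroup.zpowers (v : G) : Subgroup G) : Set G)).subtype)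
        (z := ⟨(v : G), h.le_centralizer (h.zpowers_le v.2) v.2⟩) (x := (v : G))
        (Subgroup.mem_center_iff.2 fun g => Subtype.ext ((isCentr_zpowers (v : G) g).1 g.2))
        rfl χ θ
    · intro hdec
      have hv1 : (v : G) ≠ 1 := fun e' => hv (Subtype.ext e')
      have hw1 : (w : G) ≠ 1 := fun e' => hw (Subtype.ext e')
      have hiff : (∃ t ∈ pairStab P c, t * (v : G) * t⁻¹ = w) ↔ ∃ β ∈ E, β v = w :=
        ⟨fun ⟨t, ht, e'⟩ => ⟨ρ ⟨t, ht⟩, ⟨_, rfl⟩, Subtype.ext e'⟩,
          fun ⟨β, ⟨t, ht⟩, e'⟩ => ⟨t, t.2, by subst ht; exact congrArg Subtype.val e'⟩⟩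
      simp only [hf, map_mul, map_intCast]
      rw [Finset.sum_congr rfl fun (χ : IrrCharacter G) _ => show (σ v : ℂ) * dsec p M P c (v : G) (χ : G → ℂ) *
          ((σ w : ℂ) * conj (dsec p M P c (w : G) (χ : G → ℂ))) = (σ v : ℂ) * (σ w : ℂ) *
          (dsec p M P c (v : G) (χ : G → ℂ) * conj (dsec p M P c (w : G) (χ : G → ℂ))) by ring,
        ← Finset.mul_sum, h.dsec_orth v.2 hv1 w.2 hw1]
      by_cases hr : ∃ β ∈ E, β v = w
      · rw [if_pos (hiff.2 hr), if_pos hr, h.card, Nat.cast_pow]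
        obtain ⟨β, hβ, rfl⟩ := hr
        rw [hσinv β hβ v hv]
        rcases hσ1 v hv with e' | e' <;> rw [e'] <;> simp
      · rw [if_neg (mt hiff.1 hr), if_neg hr, mul_zero]
    · have h1 : ¬ p ∣ orderOf (1 : G) := by rw [orderOf_one]; exact hM.1.not_dvd_one
      simp only [hf, mul_assoc, ← Finset.mul_sum]
      rw [Finset.sum_congr rfl fun (χ : IrrCharacter G) _ => show dsec p M P c (v : G) (χ : G → ℂ) *
          (((charDegree (χ : G → ℂ) : ℕ) : ℤ) : ℂ) =
          dsec p M P c (v : G) (χ : G → ℂ) * (χ : G → ℂ) 1 by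
        rw [Int.cast_natCast, irr_charDegree_cast], h.dsec_regular v.2
          (fun e' => hv (Subtype.ext e')) h1, mul_zero]
    · exact_mod_cast irr_charDegree_pos χ
    · simp only [hf]
      refine mul_ne_zero ?_ (h.dsec_ne_zero v.2 (fun e' => hv (Subtype.ext e')) (mem_bset.1 hχ))
      rcases hσ1 v hv with e' | e' <;> rw [e'] <;> norm_num
  obtain ⟨r1, r2, r3, r4⟩ := hcols.count hv₀ (blockRank_pos hM h.isBlock)
    (by rw [← card_bset', hcardE]; exact hkl)
  rw [← card_bset', hcardE] at r1 r3 r4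
  rw [hcardE] at r2
  exact ⟨r1, r2, r3, fun he3 => r4 he3 hprime⟩

end CfsgLib.Blocks.AbFree
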