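import Cfsg.Agent.Lib.Blocks.AbFree.Idem
import Cfsg.Agent.Lib.Blocks.CentralQuotient
import Cfsg.Agent.Lib.Blocks.AbData

/-!
# An idempotent of the block fixed by the defect group
-/

namespace CfsgLib.Blocks.AbFree

open Cfsg CfsgLib.CharTheory MonoidAlgebra Star
open scoped ComplexConjugate

set_option linter.unusedVariables false
set_option linter.unusedSimpArgs false
set_option linter.style.haveILetI false
set_option linter.unusedSectionVars false

universe u

variable {p : ℕ} {M : Ideal AlgInt} {G : Type u} [Group G] [Fintype G]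

theorem sum_range_shift {V : Type*} [AddCommGroup V] {f : ℕ → V} {N : ℕ} (h : f N = f 0) :
    ∑ i ∈ Finset.range N, f (i + 1) = ∑ i ∈ Finset.range N, f i := by
  have h1 := Finset.sum_range_succ f N
  have h2 := Finset.sum_range_succ' f N
  rw [h1, h] at h2
  exact (add_right_cancel h2).symm

/-- The idempotents of a cyclic group of order prime to `p`. -/
theorem cyc_idem {R : Type*} [CommRing R] (g : G) {N : ℕ} (hg : g ^ N = 1) (w inv : R)
    (hw : w ^ N = 1) (hinv : (N : R) * inv = 1) :
    (∑ i ∈ Finset.range N, single (g ^ i) (inv * w ^ i) : MonoidAlgebra R G) *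
      (∑ i ∈ Finset.range N, single (g ^ i) (inv * w ^ i)) =
      ∑ i ∈ Finset.range N, single (g ^ i) (inv * w ^ i) := by
  set ε : MonoidAlgebra R G := ∑ i ∈ Finset.range N, single (g ^ i) (inv * w ^ i) with hε
  have hstep : single g w * ε = ε := by
    rw [hε, Finset.mul_sum]
    refine (Finset.sum_congr rfl fun i _ => ?_).trans (sum_range_shift
      (f := fun i => (single (g ^ i) (inv * w ^ i) : MonoidAlgebra R G)) ?_)
    · show single g w * single (g ^ i) (inv * w ^ i) = single (g ^ (i + 1)) (inv * w ^ (i + 1))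
      rw [single_mul_single, ← pow_succ', pow_succ' w, mul_left_comm]
    · show single (g ^ N) (inv * w ^ N) = single (g ^ 0) (inv * w ^ 0)
      rw [hg, hw, pow_zero, pow_zero]
  have hpow : ∀ i : ℕ, single (g ^ i) (w ^ i) * ε = ε := fun i => by
    induction i with
    | zero => rw [pow_zero, pow_zero, ← one_def, one_mul]
    | succ i ih =>
      rw [pow_succ, pow_succ, ← single_mul_single, mul_assoc, hstep, ih]
  conv_lhs => arg 1; rw [hε]
  rw [Finset.sum_mul, Finset.sum_congr rfl fun i _ => show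
    single (g ^ i) (inv * w ^ i) * ε = inv • ε by
      rw [← smul_single', smul_mul_assoc, hpow], Finset.sum_const, Finset.card_range,
    ← Nat.cast_smul_eq_nsmul R, smul_smul, hinv, one_smul]

variable {B : Set (IrrCharacter G)} {P : Subgroup G}
  {c : Set (IrrCharacter (Subgroup.centralizer (P : Set G)))} {a : ℕ}

/-- An idempotent of the pair with invertible coefficient at one. -/
theorem exists_pair_idem (hM : IsPModular p M) (hab : ∀ x ∈ P, ∀ y ∈ P, x * y = y * x)
    (hc : IsPBlock M c) :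
    ∃ y : MonoidAlgebra (loc hM) G, y * y = y ∧ (∀ s ∈ (P : Set G), cj s y = y) ∧
      y * pairE hM ⟨P, c⟩ = y ∧ resHom hM (y.coeff 1) ≠ 0 := by
  classical
  letI := kField hM
  haveI : Fact p.Prime := ⟨hM.1⟩
  haveI := Fintype.ofFinite (Subgroup.centralizer (P : Set G))
  set E := pairE hM (⟨P, c⟩ : BrauerPairIdx G) with hE
  have hEc : ∀ g : Subgroup.centralizer (P : Set G),
      ((E.coeff (g : G) : loc hM) : ℂ) = blockCoeff c g := fun g => by
    have := congrFun (toC_pairE hM (a := (⟨P, c⟩ : BrauerPairIdx G)) hc) (g : G)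
    rw [subgroupBlockCoeff_eq, sext_coe] at this
    exact this
  have hE0 : E ≠ 0 := by
    intro h0
    obtain ⟨ψ, hψ⟩ := block_nonempty hM hc
    have h1 : blockCoeff c = fun _ => 0 := funext fun g => by
      rw [← hEc, h0]; simp
    have h2 := congrFun (cf_ind c) (1 : Subgroup.centralizer (P : Set G))
    have h3 : omega (ψ : Subgroup.centralizer (P : Set G) → ℂ) (blockCoeff c) = 1 := by
      rw [← cf_ind, omega_cf, ind_of_mem hψ]
    rw [h1] at h3
    simp [omega] at h3
  obtain ⟨g, hg⟩ : ∃ g, resHom hM (E.coeff g) ≠ 0 := by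
    by_contra hall
    push Not at hall
    exact hE0 (idem_eq_zero (locRed hM) (pairE_idem hM hc)
      (ext_coeff fun g => by rw [coeff_red]; exact hall g))
  have hgC : g ∈ Subgroup.centralizer (P : Set G) := by
    by_contra hn
    exact hg (by rw [hE, pairE_supp hM hc hn, map_zero])
  have hgreg : ¬ p ∣ orderOf g := fun hdvd => hg (by
    have := hEc ⟨g, hgC⟩
    rw [blockCoeff_eq_zero_singular hM hc (by rwa [← Subgroup.orderOf_coe])] at this
    rw [show E.coeff g = 0 from Subtype.ext this, map_zero])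
  set N := orderOf g with hN
  have hN0 : N ≠ 0 := (orderOf_pos g).ne'
  haveI := res_charP hM
  obtain ⟨inv, hinv⟩ : ∃ inv : loc hM, (N : loc hM) * inv = 1 := by
    refine (isUnit_iff_exists_inv.1 (isUnit_loc hM (N : loc hM) ?_))
    rw [map_natCast, Ne, CharP.cast_eq_zero_iff (AlgInt ⧸ M) p]
    exact hgreg
  set ζ : ℂ := Complex.exp (2 * Real.pi * Complex.I / N) with hζ
  have hpr : IsPrimitiveRoot ζ N := Complex.isPrimitiveRoot_exp N hN0
  set w : ℕ → loc hM := fun k => ⟨ζ ^ k, memRing_of_isIntegral hM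
    ((hpr.isIntegral (Nat.pos_of_ne_zero hN0)).pow k)⟩ with hw
  have hwN : ∀ k, w k ^ N = 1 := fun k => Subtype.ext (by
    show (ζ ^ k) ^ N = 1
    rw [← pow_mul, mul_comm, pow_mul, hpr.pow_eq_one, one_pow])
  set ε : ℕ → MonoidAlgebra (loc hM) G := fun k =>
    ∑ i ∈ Finset.range N, single (g ^ i) (inv * w k ^ i) with hε
  have hcomm : ∀ x ∈ Subgroup.centralizer (P : Set G), ∀ r : loc hM,
      single x r * E = E * single x r := by
    intro x hx r
    have h1 := (cj_eq_iff x E).1 (pairE_inv hM (a := (⟨P, c⟩ : BrauerPairIdx G)) hc hx)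
    rw [show single x r = r • single x (1 : loc hM) by rw [smul_single', mul_one],
      smul_mul_assoc, mul_smul_comm, h1]
  have hεE : ∀ k, ε k * E = E * ε k := fun k => by
    simp only [hε, Finset.sum_mul, Finset.mul_sum]
    exact Finset.sum_congr rfl fun i _ => hcomm _ (Subgroup.pow_mem _ hgC i) _
  have hEfix : ∀ s ∈ (P : Set G), cj s E = E := fun s hs =>
    pairE_inv hM hc fun x hx => hab x hx s hs
  have hεfix : ∀ k, ∀ s ∈ (P : Set G), cj s (ε k) = ε k := fun k s hs => by
    simp only [hε, cj_sum, cj_single]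
    refine Finset.sum_congr rfl fun i _ => ?_
    rw [← (Subgroup.pow_mem _ hgC i) s hs |>.symm, mul_inv_cancel_right]
  suffices ∃ k, resHom hM ((ε k * E).coeff 1) ≠ 0 by
    obtain ⟨k, hk⟩ := this
    refine ⟨ε k * E, ?_, fun s hs => by rw [cj_mul, hεfix k s hs, hEfix s hs], ?_, hk⟩
    · rw [mul_assoc, ← mul_assoc E, ← hεE, mul_assoc (ε k), pairE_idem hM hc, ← mul_assoc,
        cyc_idem g (pow_orderOf_eq_one g) (w k) inv (hwN k) hinv]
    · rw [mul_assoc, pairE_idem hM hc]
  by_contra hall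
  push Not at hall
  refine hg ?_
  have hone : ∀ k, (ε k * E).coeff 1 =
      ∑ i ∈ Finset.range N, inv * w k ^ i * E.coeff (g ^ i)⁻¹ := fun k => by
    simp only [hε, Finset.sum_mul, coeff_sum, Finsupp.finsetSum_apply, coeff_single_mul_apply,
      mul_one]
  obtain ⟨m, hm⟩ : ∃ m, N = m + 1 := ⟨N - 1, by omega⟩
  have hgm : (g ^ m)⁻¹ = g := inv_eq_of_mul_eq_one_right
    (by rw [← pow_succ, ← hm, hN, pow_orderOf_eq_one])
  have hgeo : ∀ i < N, ∑ k ∈ Finset.range N, w 1 ^ (k * (i + 1)) = if i = m then (N : loc hM) else 0 := by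
    intro i hi
    refine Subtype.ext ?_
    rw [AddSubmonoidClass.coe_finset_sum]
    simp only [hw, SubmonoidClass.coe_pow, pow_one]
    simp only [mul_comm _ (i + 1), pow_mul]
    split_ifs with him
    · subst him
      rw [Finset.sum_congr rfl fun k _ => by rw [← hm, hpr.pow_eq_one, one_pow]]
      simp
    · have hne : ζ ^ (i + 1) ≠ 1 := fun h1 => by
        have := Nat.le_of_dvd (by omega) ((hpr.pow_eq_one_iff_dvd _).1 h1)
        omega
      rw [geom_sum_eq hne, ← pow_mul, mul_comm, pow_mul, hpr.pow_eq_one, one_pow, sub_self,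
        zero_div]
      rfl
  have hsum : ∑ k ∈ Finset.range N, w 1 ^ k * (ε k * E).coeff 1 = E.coeff g := by
    have e : ∀ k i, w 1 ^ k * (inv * w k ^ i * E.coeff (g ^ i)⁻¹) =
        inv * E.coeff (g ^ i)⁻¹ * w 1 ^ (k * (i + 1)) := fun k i => by
      rw [show w k = w 1 ^ k from Subtype.ext (by simp [hw]), ← pow_mul,
        show k * (i + 1) = k + k * i by ring, pow_add]
      ring
    simp only [hone, Finset.mul_sum, e]
    rw [Finset.sum_comm]
    simp only [← Finset.mul_sum]
    rw [Finset.sum_congr rfl fun i hi => by rw [hgeo i (Finset.mem_range.1 hi)]]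
    simp only [mul_ite, mul_zero, Finset.sum_ite_eq', Finset.mem_range]
    rw [if_pos (by omega), hgm, mul_right_comm, mul_comm inv, hinv, one_mul]
  rw [← hsum, map_sum]
  exact Finset.sum_eq_zero fun k _ => by rw [map_mul, hall k, mul_zero]

/-- A primitive idempotent of the pair with its relations to the smaller pairs. -/
theorem exists_source (h : AbData p M B P c a) :
    ∃ i : MonoidAlgebra (loc h.mod) G, i * i = i ∧ (∀ s ∈ (P : Set G), cj s i = i) ∧
      resHom h.mod (i.coeff 1) ≠ 0 ∧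
      ∀ Q ≤ P, letI := kField h.mod
        br Q (red (locRed h.mod) i) * red (locRed h.mod) (pairE h.mod (belowIdx p M P c Q)) =
          br Q (red (locRed h.mod) i) := by
  classical
  have hM := h.mod
  letI := kField hM
  haveI : Fact p.Prime := ⟨hM.1⟩
  haveI : CharP (AlgInt ⧸ M) p := res_charP hM
  haveI : IsAlgClosed (AlgInt ⧸ M) := res_isAlgClosed hM
  obtain ⟨y, hyy, hyf, hyE, hy1⟩ := exists_pair_idem hM h.comm h.isBlockC
  set U : Set G := (P : Set G) ∪ (⊥ : Subgroup G) with hU
  have hfixU : ∀ z : MonoidAlgebra (loc hM) G, (∀ s ∈ (P : Set G), cj s z = z) →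
      z ∈ fixA (loc hM) U := fun z hz => mem_fixA.2 fun s hs => hs.elim (hz s) fun h1 => by
    rw [Subgroup.mem_bot.1 h1, cj_one_elem]
  set y' : fixA (loc hM) U := ⟨y, hfixU y hyf⟩
  have key : ∀ e : fixA (loc hM) U, e * e = e → resHom hM ((e : MonoidAlgebra (loc hM) G).coeff 1) ≠ 0 →
      ∃ j : fixA (loc hM) U, Prim j ∧ j * e = j ∧
        resHom hM ((j : MonoidAlgebra (loc hM) G).coeff 1) ≠ 0 := by
    intro e he
    refine idem_induction (k := AlgInt ⧸ M) (redFix (locRed hM) U)
      (fun e he h0 => Subtype.ext (idem_eq_zero (locRed hM) (congrArg Subtype.val he)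
        (congrArg Subtype.val h0)))
      (P := fun e => resHom hM ((e : MonoidAlgebra (loc hM) G).coeff 1) ≠ 0 →
        ∃ j : fixA (loc hM) U, Prim j ∧ j * e = j ∧
          resHom hM ((j : MonoidAlgebra (loc hM) G).coeff 1) ≠ 0)
      (fun h0 => absurd (by simp) h0) (fun j hj hj1 => ⟨j, hj, hj.1, hj1⟩)
      (fun e e' he he' h1 h2 iha ihb hne => ?_) he
    by_cases ha : resHom hM ((e : MonoidAlgebra (loc hM) G).coeff 1) = 0
    · obtain ⟨j, hj, hje, hj1⟩ := ihb (fun hb => hne (by simp [ha, hb]))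
      refine ⟨j, hj, ?_, hj1⟩
      rw [mul_add, hje, show j * e = 0 by rw [← hje, mul_assoc, h2, mul_zero], zero_add]
    · obtain ⟨j, hj, hje, hj1⟩ := iha ha
      refine ⟨j, hj, ?_, hj1⟩
      rw [mul_add, hje, show j * e' = 0 by rw [← hje, mul_assoc, h1, mul_zero], add_zero]
  obtain ⟨i, hi, hiy, hi1⟩ := key y' (Subtype.ext hyy) hy1
  have hii : (i : MonoidAlgebra (loc hM) G) * i = i := congrArg Subtype.val hi.1
  have hiE : (i : MonoidAlgebra (loc hM) G) * pairE hM ⟨P, c⟩ = i := by
    conv_lhs => rw [← congrArg Subtype.val hiy]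
    show (i : MonoidAlgebra (loc hM) G) * y * _ = _
    rw [mul_assoc, hyE]
    exact congrArg Subtype.val hiy
  have hbr0 : br P (red (locRed hM) (i : MonoidAlgebra (loc hM) G)) ≠ 0 := fun h0 => hi1 (by
    have h2 := congrArg (fun z => z.coeff 1) h0
    simp only [coeff_br_mem _ _ (Subgroup.one_mem _), coeff_red] at h2
    exact h2.trans (by simp))
  have hpc : PC p P (⊥ : Subgroup G) := ⟨h.isP,
    fun x hx => by rw [Subgroup.mem_bot.1 hx, orderOf_one]; exact hM.1.not_dvd_one,
    fun x _ y hy => by rw [Subgroup.mem_bot.1 hy, mul_one, one_mul]⟩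
  let S : Star.Setup (locRed hM) p G (BrauerPairIdx G) :=
    { PD := pairData hM
      ι := (loc hM).subtype
      χ := fun _ => 0
      cls := fun _ _ => rfl
      sep := loc_sep hM
      char := isCharacter_zero
      W := fun _ _ => 0
      wconj := fun _ _ _ _ => rfl
      wgen := fun U _ f _ => ⟨_, _, isCharacter_zero, isCharacter_zero, (funext fun x => (sub_zero _).symm)⟩ }
  obtain ⟨f, hf, hfQ⟩ := S.exists_block hpc hi hbr0
  obtain ⟨hf1, hf2⟩ := mem_pairsAt.1 hf
  have hbrE : br P (red (locRed hM) (i : MonoidAlgebra (loc hM) G)) *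
      red (locRed hM) (pairE hM ⟨P, c⟩) = br P (red (locRed hM) (i : MonoidAlgebra (loc hM) G)) := by
    have hfx : ∀ z : MonoidAlgebra (loc hM) G, (∀ s ∈ (P : Set G), cj s z = z) →
        red (locRed hM) z ∈ fixA (AlgInt ⧸ M) (P : Set G) := fun z hz =>
      red_fix _ (mem_fixA.2 hz)
    have hPC : ∀ s ∈ (P : Set G), s ∈ Subgroup.centralizer (P : Set G) := fun s hs x hx =>
      h.comm x hx s hs
    conv_rhs => rw [← hiE, map_mul, br_mul h.isP (hfx _ fun s hs => mem_fixA.1 i.2 s (Or.inl hs))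
      (hfx _ fun s hs => pairE_inv hM h.isBlockC (hPC s hs))]
    congr 1
    exact (br_eq_self fun x hx => by rw [coeff_red, pairE_supp hM h.isBlockC hx, map_zero]).symm
  have hfc : f = ⟨P, c⟩ := by
    by_contra hne
    have h1 := hfQ P le_rfl
    have h3 : S.PD.below P f P = f := S.PD.below_self P h.isP f hf
    rw [h3] at h1
    change _ * red (locRed hM) (pairE hM f) = _ at h1
    refine hbr0 ?_
    rw [← h1, ← hbrE, mul_assoc, ← map_mul,
      pairE_orth hM h.isBlockC hf2 hf1.symm (Ne.symm hne), map_zero, mul_zero]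
  subst hfc
  refine ⟨i, hii, fun s hs => mem_fixA.1 i.2 s (Or.inl hs), hi1, fun Q hQ => ?_⟩
  obtain ⟨h1, h2⟩ := subIdx_spec hM (a := (⟨P, c⟩ : BrauerPairIdx G)) h.isP h.isBlockC hQ
  have h4 : subIdx p M (⟨P, c⟩ : BrauerPairIdx G) Q = belowIdx p M P c Q := h.below_eq h1 h2
  rw [← h4]
  exact hfQ Q hQ

end CfsgLib.Blocks.AbFree
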