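import Cfsg.Agent.Lib.Blocks.AbFree.Local

/-!
# The signed values on the subsections have rational Fourier coefficients
-/

namespace CfsgLib.Blocks.AbFree

open Cfsg CfsgLib.CharTheory MonoidAlgebra Star
open scoped ComplexConjugate

set_option linter.unusedVariables false
set_option linter.unusedSimpArgs false
set_option linter.style.haveILetI false
set_option linter.unusedSectionVars false
set_option maxHeartbeats 800000

universe u

variable {p : ℕ} {M : Ideal AlgInt} {G : Type u} [Group G] [Fintype G]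
  {B : Set (IrrCharacter G)} {P : Subgroup G}
  {c : Set (IrrCharacter (Subgroup.centralizer (P : Set G)))} {a : ℕ}
  {A : Type u} [CommGroup A] [Fintype A] {θ : A →* G}

theorem conj_root {z : ℂ} {n : ℕ} (h : z ^ n = 1) (hn : n ≠ 0) : z * conj z = 1 := by
  rw [Complex.mul_conj, Complex.normSq_eq_norm_sq, Complex.norm_eq_one_of_pow_eq_one h hn]
  simp

theorem isGeneralized_of_char {A : Type u} [Group A] [Fintype A] {F : A → ℂ} (h : IsCharacter A F) :
    IsGeneralizedCharacter A F :=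
  ⟨F, 0, h, isCharacter_zero, (sub_zero F).symm⟩

theorem exists_signed (h : AbData p M B P c a) (hfree : FreeStab P c)
    (hθ : Function.Injective θ) (hθr : θ.range = P) :
    ∃ s : A → ℤ, (∀ v ≠ 1, s v = 1 ∨ s v = -1) ∧
      (∀ v w, Subgroup.zpowers v = Subgroup.zpowers w → s v = s w) ∧
      ∀ χ : IrrCharacter G, ∃ K : A → ℂ, InA h.mod K ∧
        ∀ v ≠ 1, K v = (s v : ℂ) * dsec p M P c (θ v) (χ : G → ℂ) := by
  classical
  have hM := h.mod
  haveI : Fact p.Prime := ⟨hM.1⟩
  haveI : ∀ Q : Subgroup G, Fintype (Subgroup.centralizer (Q : Set G)) :=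
    fun Q => Fintype.ofFinite _
  have hmem : ∀ v, θ v ∈ P := fun v => hθr ▸ ⟨v, rfl⟩
  have hA : IsPGroup p A := h.isP.of_injective (θ.codRestrict P hmem) fun x y e =>
    hθ (congrArg Subtype.val e)
  obtain ⟨i, hii, hif, hi1, hiQ⟩ := exists_source h
  choose! J m hJ hJfix hJres hJb hm hdeg hJtv using fun (R : Subgroup G) (hR : R ≤ P) (hR1 : R ≠ ⊥) =>
    exists_local h hfree hii hif hi1 hiQ hR hR1
  have hle : ∀ Q : Subgroup A, Q.map θ ≤ P := fun Q => by
    rintro _ ⟨v, -, rfl⟩; exact hmem v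
  have hne : ∀ Q : Subgroup A, Q ≠ ⊥ → Q.map θ ≠ ⊥ := fun Q hQ e =>
    hQ ((Subgroup.map_eq_bot_iff_of_injective Q hθ).1 e)
  have hmpos : ∀ R, R ≤ P → R ≠ ⊥ → 0 < m R := fun R hR hR1 =>
    Nat.pos_of_ne_zero fun e => hm R hR hR1 (e ▸ dvd_zero p)
  -- the levels
  have L : Levels hM fun Q : Subgroup A => m (Q.map θ) := by
    refine ⟨hA, fun Q hQ => hm _ (hle Q) (hne Q hQ), fun Q hQ => ?_⟩
    set R := Q.map θ with hR
    have hθC : ∀ v, θ v ∈ Subgroup.centralizer (R : Set G) := fun v =>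
      h.le_centralizer (hle Q) (hmem v)
    set θR : A →* Subgroup.centralizer (R : Set G) := θ.codRestrict _ hθC with hθR
    have hfix : ∀ v, cj (θR v) (J R) = J R := fun v => hJfix R (hle Q) (hne Q hQ) _ (hmem v)
    set F : IrrCharacter (Subgroup.centralizer (R : Set G)) → A → ℂ := fun ψ v =>
      tv (J R) (fun k => (ψ : Subgroup.centralizer (R : Set G) → ℂ) (θR v * k)) with hF
    have hchar : ∀ ψ, IsCharacter A (F ψ) := fun ψ =>
      tv_char (hJ R (hle Q) (hne Q hQ)) θR hfix ψ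
    set b : Set (IrrCharacter (Subgroup.centralizer (R : Set G))) := (belowIdx p M P c R).2 with hb
    have hbB : IsPBlock M b := (h.below_spec (hle Q)).1
    have hval : ∀ v : A, ∀ ψ : IrrCharacter (Subgroup.centralizer (R : Set G)),
        (∃ α : ℂ, IsIntegral ℤ α ∧ F ψ v = (m ((Q ⊔ Subgroup.zpowers v).map θ) : ℂ) * α) ∧
        ∑ φ ∈ bset b, F φ v * conj (F φ v) =
          (m ((Q ⊔ Subgroup.zpowers v).map θ) : ℂ) ^ 2 * ((bset b).card : ℂ) := by
      intro v ψ
      set R' := (Q ⊔ Subgroup.zpowers v).map θ with hR'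
      have hR'P : R' ≤ P := hle _
      have hR'1 : R' ≠ ⊥ := hne _ fun e => hQ (le_bot_iff.1 (e ▸ le_sup_left))
      have hRR' : R ≤ R' := Subgroup.map_mono le_sup_left
      have hvR' : θ v ∈ R' :=
        ⟨v, le_sup_right (a := Q) (Subgroup.mem_zpowers v), rfl⟩
      set ι := Subgroup.inclusion (Subgroup.centralizer_le (s := (R : Set G)) (t := (R' : Set G)) hRR')
        with hι
      have hr : ∀ g : Subgroup.centralizer (R : Set G), g * θR v = θR v * g ↔ ∃ k, ι k = g := by
        intro g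
        constructor
        · intro hg
          have hsub : R' ≤ Subgroup.centralizer ({(g : G)} : Set G) := by
            rw [hR', Subgroup.map_sup, MonoidHom.map_zpowers]
            refine sup_le (fun x hx => Subgroup.mem_centralizer_singleton_iff.2 (g.2 x hx))
              (Subgroup.zpowers_le.2 (Subgroup.mem_centralizer_singleton_iff.2 ?_))
            exact (congrArg Subtype.val hg).symm
          exact ⟨⟨g, fun x hx => Subgroup.mem_centralizer_singleton_iff.1 (hsub hx)⟩, rfl⟩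
        · rintro ⟨k, rfl⟩
          exact Subtype.ext (k.2 (θ v) hvR').symm
      have hx : ∃ n : ℕ, orderOf (θR v) = p ^ n := by
        obtain ⟨n, hn⟩ := h.ord (hmem v)
        exact ⟨n, by rw [← hn, ← Subgroup.orderOf_coe]; rfl⟩
      have hres : ∀ k, resHom hM ((J R').coeff k) = resHom hM ((J R).coeff (ι k)) := fun k =>
        (hJres R' hR'P hR'1 k).trans (hJres R (hle Q) (hne Q hQ) (ι k)).symm
      refine ⟨⟨_, IsIntegral.sum _ fun η _ => inner_shift_integral (ι := ι)
        (z := ⟨θ v, h.le_centralizer hR'P (hmem v)⟩) (x := θR v)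
        (Subgroup.mem_center_iff.2 fun g => Subtype.ext (g.2 (θ v) hvR').symm) rfl ψ η,
        section_value (Subgroup.inclusion_injective _) hr hx (hJ R (hle Q) (hne Q hQ)) (hfix v)
          (hJ R' hR'P hR'1) hres (hJtv R' hR'P hR'1) ψ⟩, ?_⟩
      have e : ∀ φ : IrrCharacter (Subgroup.centralizer (R : Set G)), F φ v =
          tv (J R') (fun k => (φ : Subgroup.centralizer (R : Set G) → ℂ) (θR v * ι k)) := fun φ =>
        tv_section (Subgroup.inclusion_injective _) hr hx (hJ R (hle Q) (hne Q hQ)) (hfix v)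
          (hJ R' hR'P hR'1) hres φ
      rw [Finset.sum_subset (Finset.subset_univ _) fun φ _ hφ => show F φ v * conj (F φ v) = 0 by
        rw [show F φ v = 0 from tv_off_block hbB (hJb R (hle Q) (hne Q hQ))
          (fun h' => hφ (mem_bset.2 h')) (θR v), zero_mul]]
      rw [Finset.sum_congr rfl fun φ _ => by rw [e φ],
        norm_section (Subgroup.inclusion_injective _) hr hx (hJ R' hR'P hR'1)]
      simp only [hJtv R' hR'P hR'1, map_mul, Complex.conj_natCast]
      rw [Finset.sum_congr rfl fun η _ => show ind (belowIdx p M P c R').2 η * (m R' : ℂ) *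
          (conj (ind (belowIdx p M P c R').2 η) * (m R' : ℂ)) =
          ind (belowIdx p M P c R').2 η * (m R' : ℂ) ^ 2 by
        by_cases hη : η ∈ (belowIdx p M P c R').2
        · rw [ind_of_mem hη, map_one]; ring
        · rw [ind_of_notMem hη, map_zero]; ring, sum_ind_mul, Finset.sum_const, nsmul_eq_mul,
        mul_comm, ← card_bset', ← card_bset', (below_rank h hfree hR'P hR'1).2,
        (below_rank h hfree (hle Q) (hne Q hQ)).2]
    obtain ⟨ψ, hψ⟩ := block_nonempty hM hbB
    have hsupne : ∀ v, (Q ⊔ Subgroup.zpowers v).map θ ≠ ⊥ := fun v =>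
      hne _ fun e => hQ (le_bot_iff.1 (e ▸ le_sup_left))
    have hF0 : ∀ φ ∈ bset b, ∀ v, F φ v ≠ 0 := by
      intro φ hφ v
      obtain ⟨-, hrs⟩ :=
        (InA.of_genChar (hM := hM) (isGeneralized_of_char (hchar φ))).mem_loc_of hA v
      intro h0
      have h1 : F φ 1 = (m R : ℂ) := by
        show tv (J R) _ = _
        rw [tv_congr fun k => show _ = (φ : Subgroup.centralizer (R : Set G) → ℂ) k by
          rw [map_one, one_mul], hJtv R (hle Q) (hne Q hQ), ind_of_mem (mem_bset.1 hφ), one_mul]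
      rw [h0, h1, res_zero, res_natCast] at hrs
      haveI := res_charP hM
      exact hm R (hle Q) (hne Q hQ) ((CharP.cast_eq_zero_iff (AlgInt ⧸ M) p _).1 hrs.symm)
    have hnorm : ∀ v, F ψ v * conj (F ψ v) = (m ((Q ⊔ Subgroup.zpowers v).map θ) : ℂ) ^ 2 := by
      intro v
      refine norm_eq_of_sum (bset b) F (fun φ _ => hchar φ) v
        (hmpos _ (hle _) (hsupne v)) (fun φ _ => ?_) (fun φ hφ => hF0 φ hφ v)
        (fun j hj => ?_) ψ (mem_bset.2 hψ)
      · obtain ⟨α, hα, e⟩ := (hval v φ).1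
        rwa [e, mul_div_cancel_left₀ _ (Nat.cast_ne_zero.2 (hmpos _ (hle _) (hsupne v)).ne')]
      · rw [(hval (v ^ j) ψ).2, zpowers_pow_eq' (hj.coprime_dvd_right (orderOf_dvd_natCard v))]
    -- the twist
    set χ : Subgroup.centralizer (R : Set G) → ℂ := fun g =>
      (ψ : Subgroup.centralizer (R : Set G) → ℂ) g with hχ
    have hcen : ∀ q : Q, θR (q : A) ∈ Subgroup.center (Subgroup.centralizer (R : Set G)) := fun q =>
      Subgroup.mem_center_iff.2 fun g => Subtype.ext (g.2 (θ q) ⟨q, q.2, rfl⟩).symm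
    let ω₀ : Q →* ℂ :=
      { toFun := fun q => χ (θR (q : A)) / χ 1
        map_one' := by
          rw [Subgroup.coe_one, map_one, div_self (irr_one_ne_zero ψ)]
        map_mul' := fun q q' => by
          simp only [hχ, Subgroup.coe_mul, map_mul]
          rw [central_value_mul (hcen q) ψ, mul_div_assoc] }
    obtain ⟨lam, hlam⟩ := MonoidHom.domRestrict_surjective ℂ Q ω₀.toHomUnits
    have hlam' : ∀ q : Q, (lam (q : A) : ℂ) = χ (θR (q : A)) / χ 1 := fun q => by
      rw [show lam (q : A) = ω₀.toHomUnits q from DFunLike.congr_fun hlam q]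
      rfl
    have hroot : ∀ v : A, ((lam⁻¹ : A →* ℂˣ) v : ℂ) ^ Nat.card A = 1 := fun v => by
      rw [← Units.val_pow_eq_pow_val, ← map_pow, pow_card_eq_one', map_one, Units.val_one]
    refine ⟨fun v => F ψ v * ((lam⁻¹ : A →* ℂˣ) v : ℂ),
      (InA.of_genChar (isGeneralized_of_char (hchar ψ))).mul (InA.lin _), fun v q hq => ?_,
      fun v => ?_, fun v => ?_⟩
    · have e : F ψ (v * q) = (lam q : ℂ) * F ψ v := by
        rw [hlam' ⟨q, hq⟩]
        simp only [hF, hχ, tv, Finset.mul_sum]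
        refine Finset.sum_congr rfl fun k _ => ?_
        rw [mul_comm v q, map_mul, mul_assoc, central_value_mul (hcen ⟨q, hq⟩) ψ]
        ring
      show F ψ (v * q) * _ = F ψ v * _
      rw [e, map_mul, Units.val_mul, MonoidHom.inv_apply lam q, Units.val_inv_eq_inv_val]
      field_simp
    · show F ψ v * _ * conj (F ψ v * _) = _
      rw [map_mul, mul_mul_mul_comm, hnorm v, conj_root (hroot v) Nat.card_pos.ne', mul_one]
    · obtain ⟨α, hα, e⟩ := (hval v ψ).1
      show IsIntegral ℤ (F ψ v * _ / _)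
      rw [e, mul_assoc, mul_div_cancel_left₀ _ (Nat.cast_ne_zero.2 (hmpos _ (hle _) (hsupne v)).ne')]
      exact hα.mul (IsIntegral.of_pow Nat.card_pos (by rw [hroot v]; exact isIntegral_one))
  obtain ⟨F, hFA, hFv, hFz⟩ := L.glue
  have hs : ∀ v ≠ 1, Subgroup.zpowers (θ v) ≤ P ∧ Subgroup.zpowers (θ v) ≠ ⊥ ∧
      (Subgroup.zpowers v).map θ = Subgroup.zpowers (θ v) := fun v hv =>
    ⟨h.zpowers_le (hmem v), Subgroup.zpowers_ne_bot.2 fun e => hv (hθ (by rw [e, map_one])),
      MonoidHom.map_zpowers θ v⟩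
  set s : A → ℤ := fun v =>
    if F v = (m ((Subgroup.zpowers v).map θ) : ℤ) then 1 else -1 with hsdef
  refine ⟨s, fun v _ => by simp only [hsdef]; split_ifs <;> simp,
    fun v w e => by simp only [hsdef, e, hFz v w e], fun χ => ?_⟩
  by_cases htriv : ∀ v : A, v = 1
  · exact ⟨fun _ => 1, InA.one, fun v hv => absurd (htriv v) hv⟩
  push Not at htriv
  obtain ⟨v₀, hv₀⟩ := htriv
  have hF1 : res hM ((F 1 : ℤ) : ℂ) ≠ 0 := by
    obtain ⟨h1, h2, h3⟩ := hs v₀ hv₀
    haveI := res_charP hM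
    rw [← (hFA.mem_loc_of hA v₀).2]
    have hint : ∀ z : ℤ, res hM (z : ℂ) = (z : AlgInt ⧸ M) := fun z => by
      rw [← map_intCast (resHom hM), resHom_apply]; simp
    rcases hFv v₀ hv₀ with e | e <;> rw [e, hint, h3] <;> push_cast
    · exact fun h0 => hm _ h1 h2 ((CharP.cast_eq_zero_iff (AlgInt ⧸ M) p _).1 h0)
    · exact fun h0 => hm _ h1 h2 ((CharP.cast_eq_zero_iff (AlgInt ⧸ M) p _).1 (neg_eq_zero.1 h0))
  have hg : InA hM fun v => tv i (fun g => (χ : G → ℂ) (θ v * g)) :=
    InA.of_genChar (isGeneralized_of_char (tv_char hii θ (fun v => hif _ (hmem v)) χ))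
  refine ⟨_, hg.mul (hFA.inv hA hF1), fun v hv => ?_⟩
  obtain ⟨h1, h2, h3⟩ := hs v hv
  set R := Subgroup.zpowers (θ v) with hR
  have e : tv i (fun g => (χ : G → ℂ) (θ v * g)) =
      (m R : ℂ) * dsec p M P c (θ v) (χ : G → ℂ) := by
    have hr : ∀ g : G, g * θ v = θ v * g ↔
        ∃ k, (Subgroup.centralizer (R : Set G)).subtype k = g := fun g =>
      ⟨fun hg => ⟨⟨g, (isCentr_zpowers (θ v) g).2 hg⟩, rfl⟩,
        fun ⟨k, hk⟩ => hk ▸ (isCentr_zpowers (θ v) _).1 k.2⟩
    rw [section_value Subtype.coe_injective hr (h.ord (hmem v)) hii (hif _ (hmem v))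
      (hJ R h1 h2) (fun k => hJres R h1 h2 k) (hJtv R h1 h2) χ]
    congr 1
    have hbB : IsPBlock M (belowIdx p M P c R).2 := (h.below_spec h1).1
    obtain ⟨_, _, _, hf, -⟩ := single_block hM hbB (h.rankOne (θ v) (hmem v)
      fun e => hv (hθ (by rw [e, map_one])))
    have e2 : dsec p M P c (θ v) (χ : G → ℂ) =
        ∑ η ∈ bset (belowIdx p M P c R).2, classInner
          (sec (θ v) (Subgroup.centralizer (R : Set G)) (χ : G → ℂ))
          (η : Subgroup.centralizer (R : Set G) → ℂ) * ((1 : ℕ) : ℂ) :=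
      cval_eq_sum hM (φ := 0) (d := fun _ => 1) hf
        (fun η hη => by rw [one_mul]; exact hdeg R h1 h2 η hη) (θ v) _
    simp only [Nat.cast_one, mul_one] at e2
    exact e2.symm
  show tv i _ * ((F v : ℂ))⁻¹ = _
  rw [e]
  have hm0 : (m R : ℂ) ≠ 0 := Nat.cast_ne_zero.2 (hmpos R h1 h2).ne'
  simp only [hsdef, h3]
  rcases hFv v hv with e' | e' <;> rw [h3] at e' <;> rw [e']
  · rw [if_pos rfl]; push_cast; field_simp
  · rw [if_neg fun h0 => by have := hmpos R h1 h2; omega]; push_cast; field_simp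

end CfsgLib.Blocks.AbFree
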